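import Groth.Agent.Lib.PBasis.Separable
import Mathlib.Algebra.Field.ULift
import Mathlib.Algebra.Algebra.Rat
import Mathlib.LinearAlgebra.Basis.VectorSpace
import Mathlib.RingTheory.Kaehler.TensorProduct

/-!
# Formally smooth field extensions
-/

universe u v

namespace Groth.Agent.Lib.PBasis.FieldSmooth

open EGA41 TensorProduct Groth.Agent.Lib.PBasis.Separable

/-- If derivations kill `P`, differentials over `ℤ` and over `P` agree. -/
theorem map_bijective (P : Type v) (A : Type u) [CommRing P] [CommRing A] [Algebra P A]
    (hP : ∀ a : P, KaehlerDifferential.D ℤ A (algebraMap P A a) = 0) :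
    Function.Bijective (KaehlerDifferential.map ℤ P A A) := by
  refine ⟨?_, KaehlerDifferential.map_surjective ℤ P A⟩
  let D : Derivation P A (Ω[A⁄ℤ]) := Derivation.mk'
    { toFun := fun b => KaehlerDifferential.D ℤ A b
      map_add' := fun a b => map_add _ a b
      map_smul' := fun r b => by
        simp only [RingHom.id_apply]
        rw [Algebra.smul_def, Derivation.leibniz, hP, smul_zero, add_zero, algebraMap_smul] }
    (fun a b => Derivation.leibniz _ a b)
  refine Function.LeftInverse.injective (g := D.liftKaehlerDifferential) fun ω => ?_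
  suffices D.liftKaehlerDifferential ∘ₗ (KaehlerDifferential.map ℤ P A A) = LinearMap.id from
    LinearMap.congr_fun this ω
  refine Derivation.liftKaehlerDifferential_unique _ _ (Derivation.ext fun b => ?_)
  change D.liftKaehlerDifferential (KaehlerDifferential.map ℤ P A A (KaehlerDifferential.D ℤ A b)) =
    KaehlerDifferential.D ℤ A b
  rw [KaehlerDifferential.map_D, Derivation.liftKaehlerDifferential_comp_D]
  rfl

variable {k K : Type u} [Field k] [Field K] [Algebra k K]

theorem injective_int_iff (P : Type v) [Field P] [Algebra P k] [Algebra P K] [IsScalarTower P k K]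
    (hk : ∀ a : P, KaehlerDifferential.D ℤ k (algebraMap P k a) = 0)
    (hK : ∀ a : P, KaehlerDifferential.D ℤ K (algebraMap P K a) = 0) :
    Function.Injective (KaehlerDifferential.mapBaseChange ℤ k K) ↔
      Function.Injective (KaehlerDifferential.mapBaseChange P k K) := by
  let α := (KaehlerDifferential.map ℤ P k k).baseChange K
  have hα : Function.Bijective α := by
    let e := (LinearEquiv.ofBijective _ (map_bijective P k hk)).baseChange k K
    exact e.bijective
  have hβ := map_bijective P K hK
  have hsq : (KaehlerDifferential.mapBaseChange P k K) ∘ₗ α =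
      (KaehlerDifferential.map ℤ P K K) ∘ₗ (KaehlerDifferential.mapBaseChange ℤ k K) := by
    refine TensorProduct.AlgebraTensorModule.ext fun x ω => ?_
    simp only [α, LinearMap.comp_apply, LinearMap.baseChange_tmul,
      KaehlerDifferential.mapBaseChange_tmul, map_smul]
    congr 1
    have h2 : (KaehlerDifferential.map P P k K).restrictScalars k ∘ₗ
          (KaehlerDifferential.map ℤ P k k) =
        (KaehlerDifferential.map ℤ P K K).restrictScalars k ∘ₗ
          (KaehlerDifferential.map ℤ ℤ k K) := by
      refine Derivation.liftKaehlerDifferential_unique _ _ (Derivation.ext fun b => ?_)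
      simp
    exact LinearMap.congr_fun h2 ω
  have hfun : (KaehlerDifferential.mapBaseChange P k K) ∘ α =
      (KaehlerDifferential.map ℤ P K K) ∘ (KaehlerDifferential.mapBaseChange ℤ k K) :=
    funext fun x => LinearMap.congr_fun hsq x
  rw [← hβ.1.of_comp_iff (KaehlerDifferential.mapBaseChange ℤ k K), ← hfun,
    Function.Injective.of_comp_iff' _ hα]

variable (k K) in
theorem D_ratCast [CharZero K] (q : ℚ) : KaehlerDifferential.D ℤ K (algebraMap ℚ K q) = 0 := by
  have h : (q.den : K) * algebraMap ℚ K q = (q.num : K) := by
    rw [← map_natCast (algebraMap ℚ K), ← map_mul, mul_comm, Rat.mul_den_eq_num, map_intCast]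
  have h2 := congr_arg (KaehlerDifferential.D ℤ K) h
  rw [Derivation.leibniz, Derivation.map_natCast, smul_zero, add_zero, Derivation.map_intCast] at h2
  exact (smul_eq_zero.1 h2).resolve_left (Nat.cast_ne_zero.2 q.den_ne_zero)

theorem tfae_charZero [CharZero k] :
    Algebra.FormallySmooth k K ∧ Algebra.IsGeometricallyReduced k K ∧
      Function.Injective (KaehlerDifferential.mapBaseChange ℤ k K) := by
  haveI : CharZero K := charZero_of_injective_algebraMap (algebraMap k K).injective
  letI : Algebra ℚ k := DivisionRing.toRatAlgebra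
  letI : Algebra ℚ K := DivisionRing.toRatAlgebra
  haveI : IsScalarTower ℚ k K := IsScalarTower.of_algebraMap_eq' (RingHom.ext_rat _ _)
  haveI := formallySmooth_of_charZero ℚ K
  refine ⟨formallySmooth_of_charZero k K, MacLane.isGeometricallyReduced_of_charZero, ?_⟩
  exact (injective_int_iff ℚ (D_ratCast k) (D_ratCast K)).2
    ((formallySmooth_iff_injective ℚ).1 (formallySmooth_of_charZero k K))

theorem D_primeField {A : Type u} [CommRing A] (p : ℕ) [NeZero p] (φ : ULift.{u} (ZMod p) →+* A)
    (a : ULift.{u} (ZMod p)) : KaehlerDifferential.D ℤ A (φ a) = 0 := by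
  rw [show a = ((a.down.val : ℕ) : ULift.{u} (ZMod p)) from
    ULift.ext _ _ (by rw [ULift.down_natCast, ZMod.natCast_zmod_val]), map_natCast,
    Derivation.map_natCast]

theorem tfae_charP (p : ℕ) [Fact p.Prime] [CharP k p] :
    (Algebra.FormallySmooth k K ↔
      Function.Injective (KaehlerDifferential.mapBaseChange ℤ k K)) ∧
    (Algebra.IsGeometricallyReduced k K ↔
      Function.Injective (KaehlerDifferential.mapBaseChange ℤ k K)) := by
  haveI : CharP K p := charP_of_injective_algebraMap (algebraMap k K).injective p
  let P := ULift.{u} (ZMod p)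
  letI : Algebra P k :=
    ((ZMod.castHom (dvd_refl p) k).comp (ULift.ringEquiv : P ≃+* ZMod p).toRingHom).toAlgebra
  letI : Algebra P K := ((algebraMap k K).comp (algebraMap P k)).toAlgebra
  haveI : IsScalarTower P k K := IsScalarTower.of_algebraMap_eq' rfl
  haveI : CharP P p := charP_of_injective_ringHom
    (f := (ULift.ringEquiv : P ≃+* ZMod p).symm.toRingHom) (RingEquiv.injective _) p
  haveI : Finite P := Finite.of_equiv (ZMod p) Equiv.ulift.symm
  haveI : PerfectRing P p := PerfectRing.ofFiniteOfIsReduced p P
  haveI := formallySmooth_of_perfect_charP K p P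
  have hPi := injective_int_iff (k := k) (K := K) P
    (fun a => D_primeField p _ a) (fun a => D_primeField p _ a)
  rw [hPi]
  refine ⟨formallySmooth_iff_injective P, fun h => ?_, fun h => ?_⟩
  · exact injective_of_isMacLane p P MacLane.isMacLane
  · exact MacLane.isGeometricallyReduced (isMacLane_of_injective p P h)

theorem formallySmooth_iff_injective_int :
    Algebra.FormallySmooth k K ↔
      Function.Injective (KaehlerDifferential.mapBaseChange ℤ k K) := by
  obtain h | ⟨p, hp, hpk⟩ := CharP.exists' k
  · exact iff_of_true tfae_charZero.1 tfae_charZero.2.2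
  · exact (tfae_charP p).1

theorem isGeometricallyReduced_iff_injective_int :
    Algebra.IsGeometricallyReduced k K ↔
      Function.Injective (KaehlerDifferential.mapBaseChange ℤ k K) := by
  obtain h | ⟨p, hp, hpk⟩ := CharP.exists' k
  · exact iff_of_true tfae_charZero.2.1 tfae_charZero.2.2
  · exact (tfae_charP p).2

theorem formallySmooth_iff_isGeometricallyReduced :
    Algebra.FormallySmooth k K ↔ Algebra.IsGeometricallyReduced k K :=
  formallySmooth_iff_injective_int.trans isGeometricallyReduced_iff_injective_int.symm

/-- Injectivity on differentials means extension of derivations. -/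
theorem injective_iff_derivations_extend :
    Function.Injective (KaehlerDifferential.mapBaseChange ℤ k K) ↔
      ∀ D : Derivation ℤ k K, ∃ D' : Derivation ℤ K K, ∀ a : k, D' (algebraMap k K a) = D a := by
  constructor
  · intro h D
    obtain ⟨l, hl⟩ := LinearMap.exists_leftInverse_of_injective _ (LinearMap.ker_eq_bot.2 h)
    refine ⟨((D.liftKaehlerDifferential.liftBaseChange K) ∘ₗ l).compDer
      (KaehlerDifferential.D ℤ K), fun a => ?_⟩
    have h1 := LinearMap.congr_fun hl ((1 : K) ⊗ₜ[k] KaehlerDifferential.D ℤ k a)
    rw [LinearMap.comp_apply, KaehlerDifferential.mapBaseChange_tmul, one_smul,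
      KaehlerDifferential.map_D] at h1
    change D.liftKaehlerDifferential.liftBaseChange K
      (l (KaehlerDifferential.D ℤ K (algebraMap k K a))) = D a
    rw [h1, LinearMap.id_apply, LinearMap.liftBaseChange_tmul, one_smul,
      Derivation.liftKaehlerDifferential_comp_D]
  · intro h
    rw [injective_iff_map_eq_zero]
    intro z hz
    by_contra hne
    obtain ⟨f, hf⟩ := Module.Projective.exists_dual_ne_zero K hne
    let L : Ω[k⁄ℤ] →ₗ[k] K := f.restrictScalars k ∘ₗ TensorProduct.mk k K (Ω[k⁄ℤ]) 1
    obtain ⟨D', hD'⟩ := h (L.compDer (KaehlerDifferential.D ℤ k))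
    have h2 : f = D'.liftKaehlerDifferential ∘ₗ KaehlerDifferential.mapBaseChange ℤ k K := by
      refine TensorProduct.AlgebraTensorModule.ext fun x ω => ?_
      have key : L = (D'.liftKaehlerDifferential.restrictScalars k) ∘ₗ
          KaehlerDifferential.map ℤ ℤ k K := by
        refine Derivation.liftKaehlerDifferential_unique _ _ (Derivation.ext fun a => ?_)
        change L (KaehlerDifferential.D ℤ k a) = D'.liftKaehlerDifferential
          (KaehlerDifferential.map ℤ ℤ k K (KaehlerDifferential.D ℤ k a))
        rw [KaehlerDifferential.map_D, Derivation.liftKaehlerDifferential_comp_D, hD']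
        rfl
      have key' : f ((1 : K) ⊗ₜ[k] ω) =
          D'.liftKaehlerDifferential (KaehlerDifferential.map ℤ ℤ k K ω) :=
        LinearMap.congr_fun key ω
      rw [LinearMap.comp_apply, KaehlerDifferential.mapBaseChange_tmul, map_smul, ← key',
        ← map_smul, TensorProduct.smul_tmul', smul_eq_mul, mul_one]
    exact hf (by rw [h2, LinearMap.comp_apply, hz, map_zero])

end Groth.Agent.Lib.PBasis.FieldSmooth
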