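import Mathlib.RingTheory.Nilpotent.GeometricallyReduced
import Mathlib.RingTheory.Unramified.Field
import Mathlib.RingTheory.TensorProduct.Free
import Mathlib.FieldTheory.IsAlgClosed.AlgebraicClosure
import Mathlib.Algebra.CharP.Reduced
import Mathlib.FieldTheory.Perfect
import Mathlib.RingTheory.Flat.Basic
import Mathlib.LinearAlgebra.TensorProduct.Basis

/-!
# Geometrically reduced field extensions and MacLane's criterion
-/

universe u

namespace Groth.Agent.Lib.PBasis.MacLane

open TensorProduct

variable (p : ℕ) (k K : Type u) [Field k] [Field K] [Algebra k K]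

/-- Linearly independent families stay independent after raising to the `p`-th power. -/
def IsMacLane : Prop :=
  ∀ (s : Type u) (v : s → K), LinearIndependent k v → LinearIndependent k fun i => v i ^ p

variable {p k K}

section

variable [Fact p.Prime] [CharP k p]

theorem isReduced_tensor (h : IsMacLane p k K) (L : Type u) [Field L] [Algebra k L] :
    IsReduced (L ⊗[k] K) := by
  refine (isReduced_iff_pow_one_lt p (Fact.out : p.Prime).one_lt).2 fun x hx => ?_
  let b := Module.Free.chooseBasis k K
  let bL := Algebra.TensorProduct.basis L b
  haveI : CharP L p := charP_of_injective_algebraMap (algebraMap k L).injective p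
  haveI : CharP (L ⊗[k] K) p :=
    charP_of_injective_algebraMap (Algebra.TensorProduct.includeLeft_injective (S := L) (A := L)
      (algebraMap k K).injective) p
  have h1 : LinearIndependent L fun i => (1 : L) ⊗ₜ[k] (b i ^ p) := by
    have hb := h _ b b.linearIndependent
    exact Module.Flat.linearIndependent_one_tmul hb
  have hexp : x ^ p = ∑ i ∈ (bL.repr x).support, (bL.repr x i) ^ p • ((1 : L) ⊗ₜ[k] (b i ^ p)) := by
    conv_lhs => rw [← bL.linearCombination_repr x, Finsupp.linearCombination_apply, Finsupp.sum,
      sum_pow_char]
    refine Finset.sum_congr rfl fun i _ => ?_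
    rw [smul_pow, Algebra.TensorProduct.basis_apply, Algebra.TensorProduct.tmul_pow, one_pow]
  rw [hexp] at hx
  refine bL.repr.injective ?_
  rw [map_zero]
  ext i
  by_cases hi : i ∈ (bL.repr x).support
  · exact eq_zero_of_pow_eq_zero (linearIndependent_iff'.1 h1 _ _ hx i hi)
  · simpa using hi

theorem isGeometricallyReduced (h : IsMacLane p k K) : Algebra.IsGeometricallyReduced k K :=
  (Algebra.isGeometricallyReduced_field_iff k K).2 (isReduced_tensor h _)

theorem isMacLane [Algebra.IsGeometricallyReduced k K] : IsMacLane p k K := by
  intro s v hv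
  rw [linearIndependent_iff']
  intro T g hsum i hi
  let L := AlgebraicClosure k
  haveI : CharP L p := charP_of_injective_algebraMap (algebraMap k L).injective p
  haveI : CharP (L ⊗[k] K) p :=
    charP_of_injective_algebraMap (Algebra.TensorProduct.includeLeft_injective (S := L) (A := L)
      (algebraMap k K).injective) p
  choose α hα using fun j => IsAlgClosed.exists_pow_nat_eq (algebraMap k L (g j))
    (Fact.out : p.Prime).pos
  have hpow : (∑ j ∈ T, α j • ((1 : L) ⊗ₜ[k] v j)) ^ p = 0 := by
    rw [sum_pow_char]
    have : ∀ j ∈ T, (α j • ((1 : L) ⊗ₜ[k] v j)) ^ p = (1 : L) ⊗ₜ[k] (g j • v j ^ p) := fun j _ => by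
      rw [smul_pow, hα, Algebra.TensorProduct.tmul_pow, one_pow, algebraMap_smul,
        TensorProduct.tmul_smul]
    rw [Finset.sum_congr rfl this, ← TensorProduct.tmul_sum, hsum, TensorProduct.tmul_zero]
  have hz := IsReduced.eq_zero _ ⟨p, hpow⟩
  have h1 : LinearIndependent L fun j => (1 : L) ⊗ₜ[k] v j :=
    Module.Flat.linearIndependent_one_tmul hv
  have h2 := linearIndependent_iff'.1 h1 T α hz i hi
  exact (algebraMap k L).injective (by
    rw [← hα, h2, zero_pow (Fact.out : p.Prime).ne_zero, map_zero])

end

/-- Extensions of characteristic zero fields are geometrically reduced. -/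
theorem isGeometricallyReduced_of_charZero [CharZero k] : Algebra.IsGeometricallyReduced k K := by
  rw [Algebra.isGeometricallyReduced_field_iff]
  have h : IsReduced (K ⊗[k] AlgebraicClosure k) := by
    refine IsReduced.tensorProduct_of_flat_of_forall_fg fun B hB => ?_
    haveI : Algebra.FiniteType k B := (Subalgebra.fg_iff_finiteType B).1 hB
    haveI : Algebra.IsIntegral k B := Algebra.IsIntegral.of_injective B.val Subtype.val_injective
    haveI : Module.Finite k B := Algebra.IsIntegral.finite
    letI : Field B := (Subalgebra.isField_of_algebraic B).toField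
    haveI : Algebra.IsSeparable k B := inferInstance
    haveI : Algebra.FormallyUnramified k B := Algebra.FormallyUnramified.of_isSeparable k B
    exact Algebra.FormallyUnramified.isReduced_of_field K (K ⊗[k] B)
  exact isReduced_of_injective (Algebra.TensorProduct.comm k (AlgebraicClosure k) K)
    (Algebra.TensorProduct.comm k (AlgebraicClosure k) K).injective

end Groth.Agent.Lib.PBasis.MacLane
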