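import Groth.Agent.Lib.PBasis.Basic
import Mathlib.FieldTheory.Perfect
import Mathlib.Algebra.CharP.Reduced
import Mathlib.Algebra.CharP.Lemmas
import Mathlib.RingTheory.Smooth.Basic

/-!
# A p-basis over a perfect ring gives formal smoothness
-/

universe u

namespace Groth.Agent.Lib.PBasis.Perfect

open EGA41 Groth.Agent.Lib.PBasis.Basic

variable {p : ℕ} [Fact p.Prime] {A B : Type u} [CommRing A] [CharP A p] [PerfectRing A p]
  [CommRing B] [Algebra A B] [CharP B p] [IsReduced B] {ι : Type u} {x : ι → B}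

omit [IsReduced B] in
theorem exists_root (b : pPowerSubalgebra p A B) : ∃ c : B, c ^ p = (b : B) := by
  obtain ⟨b, hb⟩ := b
  induction hb using Algebra.adjoin_induction with
  | mem y hy => exact hy
  | algebraMap r =>
    obtain ⟨s, hs⟩ := surjective_frobenius A p r
    refine ⟨algebraMap A B s, ?_⟩
    rw [← map_pow, ← frobenius_def, hs]
  | add a b _ _ ha hb =>
    obtain ⟨a', ha'⟩ := ha
    obtain ⟨b', hb'⟩ := hb
    exact ⟨a' + b', by rw [add_pow_char, ha', hb']⟩
  | mul a b _ _ ha hb =>
    obtain ⟨a', ha'⟩ := ha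
    obtain ⟨b', hb'⟩ := hb
    exact ⟨a' * b', by rw [mul_pow, ha', hb']⟩

/-- The p-th root in `B` of an element of `A[B^p]`. -/
noncomputable def root (b : pPowerSubalgebra p A B) : B := (exists_root b).choose

theorem root_pow (b : pPowerSubalgebra p A B) : root b ^ p = (b : B) :=
  (exists_root b).choose_spec

theorem root_unique (b : pPowerSubalgebra p A B) {c : B} (h : c ^ p = (b : B)) : root b = c :=
  frobenius_inj B p (by rw [frobenius_def, frobenius_def, h, root_pow])

/-- The p-th root as a ring homomorphism. -/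
noncomputable def rootHom : pPowerSubalgebra p A B →+* B where
  toFun := root
  map_one' := root_unique 1 (by simp)
  map_mul' a b := root_unique _ (by simp [mul_pow, root_pow])
  map_zero' := root_unique 0 (by simp [(Fact.out : p.Prime).ne_zero])
  map_add' a b := root_unique _ (by simp [add_pow_char, root_pow])

theorem existsUnique_lift_sq (hx : IsPBasis p A x) {E : Type u} [CommRing E] [Algebra A E]
    (J : Ideal E) (hJ : J ^ 2 = ⊥) (v : B →ₐ[A] E ⧸ J) (z : ι → E)
    (hz : ∀ i, Ideal.Quotient.mk J (z i) = v (x i)) :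
    ∃! w : B →ₐ[A] E, (Ideal.Quotient.mkₐ A J).comp w = v ∧ ∀ i, w (x i) = z i := by
  rcases subsingleton_or_nontrivial E with hs | hn
  · refine ⟨
      { toFun := fun _ => 0, map_one' := Subsingleton.elim _ _, map_mul' := by simp,
        map_zero' := rfl, map_add' := by simp, commutes' := fun _ => Subsingleton.elim _ _ },
      ⟨AlgHom.ext fun b => ?_, fun i => Subsingleton.elim _ _⟩,
      fun y _ => AlgHom.ext fun b => Subsingleton.elim _ _⟩
    haveI : Subsingleton (E ⧸ J) := Function.Surjective.subsingleton Ideal.Quotient.mk_surjective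
    exact Subsingleton.elim _ _
  haveI : CharP E p := (CharP.charP_iff_prime_eq_zero (Fact.out : p.Prime)).2 (by
    rw [← map_natCast (algebraMap A E), CharP.cast_eq_zero, map_zero])
  have hp : 1 < p := (Fact.out : p.Prime).one_lt
  have hJp : ∀ e e' : E, Ideal.Quotient.mk J e = Ideal.Quotient.mk J e' → e ^ p = e' ^ p := by
    intro e e' h
    have h' : (e - e') ^ p = 0 := by
      have := Ideal.pow_le_pow_right (show 2 ≤ p from hp)
        (Ideal.pow_mem_pow ((Ideal.Quotient.mk_eq_mk_iff_sub_mem _ _).1 h) p)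
      rwa [hJ] at this
    rwa [sub_pow_char, sub_eq_zero] at h'
  choose σ hσ using fun b => Ideal.Quotient.mk_surjective (v b)
  let Φ : B →+* E :=
    { toFun := fun b => σ b ^ p
      map_one' := by rw [hJp (σ 1) 1 (by simp [hσ]), one_pow]
      map_mul' := fun a b => by rw [hJp (σ (a * b)) (σ a * σ b) (by simp [hσ]), mul_pow]
      map_zero' := by rw [hJp (σ 0) 0 (by simp [hσ]), zero_pow (Fact.out : p.Prime).ne_zero]
      map_add' := fun a b => by
        rw [hJp (σ (a + b)) (σ a + σ b) (by simp [hσ]), add_pow_char] }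
  have hΦA : ∀ (a : A), Φ (root ⟨algebraMap A B a, (pPowerSubalgebra p A B).algebraMap_mem a⟩) =
      algebraMap A E a := by
    intro a
    obtain ⟨s, hs⟩ := surjective_frobenius A p a
    have hs' : s ^ p = a := hs
    rw [root_unique _ (c := algebraMap A B s) (by simp [← map_pow, hs'])]
    change σ _ ^ p = _
    rw [hJp _ (algebraMap A E s) (by rw [hσ, v.commutes]; rfl), ← map_pow, hs']
  let ψ : pPowerSubalgebra p A B →+* E := Φ.comp rootHom
  letI : Algebra (pPowerSubalgebra p A B) E := ψ.toAlgebra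
  have hc : ∀ i, algebraMap (pPowerSubalgebra p A B) E (cP p x i) = z i ^ p := fun i => by
    change Φ (root (cP p x i)) = _
    rw [root_unique _ (c := x i) rfl]
    exact hJp _ _ (by rw [hσ, hz])
  obtain ⟨w₀, hw₀, huniq⟩ := existsUnique_algHom hp x (cP p x) (algebraMap_cP (A := A) p x)
    hx.1 hx.2 z hc
  have hgen := (isPGenerating_iff p hp x).1 hx.2
  have hwB : ∀ b, w₀ ((b : pPowerSubalgebra p A B) : B) = Φ (root b) := fun b => w₀.commutes b
  let w : B →ₐ[A] E :=
    { toRingHom := w₀.toRingHom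
      commutes' := fun a => by
        have := hwB ⟨algebraMap A B a, (pPowerSubalgebra p A B).algebraMap_mem a⟩
        rw [hΦA] at this
        exact this }
  refine ⟨w, ⟨AlgHom.ext fun b => ?_, hw₀⟩, fun w' hw' => ?_⟩
  · have hb : b ∈ Algebra.adjoin (pPowerSubalgebra p A B) (Set.range x) := hgen ▸ Algebra.mem_top
    induction hb using Algebra.adjoin_induction with
    | mem y hy =>
      obtain ⟨i, rfl⟩ := hy
      change Ideal.Quotient.mk J (w₀ (x i)) = _
      rw [hw₀, hz]
    | algebraMap r =>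
      change Ideal.Quotient.mk J (w₀ (r : B)) = v (r : B)
      rw [hwB]
      change Ideal.Quotient.mk J (σ (root r) ^ p) = _
      rw [map_pow, hσ, ← map_pow, root_pow]
    | add a b _ _ ha hb => rw [map_add, map_add, ha, hb]
    | mul a b _ _ ha hb => rw [map_mul, map_mul, ha, hb]
  · let w₁ : B →ₐ[pPowerSubalgebra p A B] E :=
      { toRingHom := w'.toRingHom
        commutes' := fun r => by
          change w' (r : B) = Φ (root r)
          conv_lhs => rw [← root_pow r, map_pow]
          refine hJp _ _ ?_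
          rw [hσ]
          exact AlgHom.congr_fun hw'.1 _ }
    have h2 : w₁ = w₀ := huniq w₁ hw'.2
    exact AlgHom.ext fun b => AlgHom.congr_fun h2 b

theorem existsUnique_lift (hx : IsPBasis p A x) (E : Type u) [CommRing E] [Algebra A E]
    (R : Ideal E) (hR : IsNilpotent R) :
    ∀ (v : B →ₐ[A] E ⧸ R) (z : ι → E), (∀ i, Ideal.Quotient.mk R (z i) = v (x i)) →
      ∃! w : B →ₐ[A] E, (Ideal.Quotient.mkₐ A R).comp w = v ∧ ∀ i, w (x i) = z i := by
  revert ‹Algebra A E›
  apply Ideal.IsNilpotent.induction_on (S := E) R hR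
  · intro E _ J hJ _ v z hz
    exact existsUnique_lift_sq hx J hJ v z hz
  · intro E _ I J hIJ h₁ h₂ _ v z hz
    let e : ((E ⧸ I) ⧸ J.map (Ideal.Quotient.mk I)) ≃ₐ[A] E ⧸ J :=
      { (DoubleQuot.quotQuotEquivQuotSup I J).trans
          (Ideal.quotEquivOfEq (sup_eq_right.mpr hIJ)) with
        commutes' := fun a => rfl }
    obtain ⟨w₁, ⟨hw₁, hw₁x⟩, hw₁u⟩ := h₂ (e.symm.toAlgHom.comp v)
      (fun i => Ideal.Quotient.mk I (z i)) (fun i => e.injective (by
        rw [show e ((e.symm.toAlgHom.comp v) (x i)) = v (x i) from e.apply_symm_apply _]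
        exact hz i))
    obtain ⟨w, ⟨hw, hwx⟩, hwu⟩ := h₁ w₁ z fun i => (hw₁x i).symm
    have key : ∀ w' : B →ₐ[A] E, e.toAlgHom.comp ((Ideal.Quotient.mkₐ A _).comp
        ((Ideal.Quotient.mkₐ A I).comp w')) = (Ideal.Quotient.mkₐ A J).comp w' :=
      fun w' => AlgHom.ext fun b => rfl
    have he : e.toAlgHom.comp (e.symm.toAlgHom.comp v) = v :=
      AlgHom.ext fun b => e.apply_symm_apply _
    refine ⟨w, ⟨?_, hwx⟩, fun w' hw' => hwu w' ⟨hw₁u _ ⟨?_, fun i => ?_⟩, hw'.2⟩⟩
    · rw [← key, hw, hw₁, he]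
    · refine AlgHom.ext fun b => e.injective ?_
      have h3 := AlgHom.congr_fun ((key w').trans (hw'.1.trans he.symm)) b
      exact h3
    · change Ideal.Quotient.mk I (w' (x i)) = _
      rw [hw'.2]

theorem formallySmooth (hx : IsPBasis p A x) : Algebra.FormallySmooth A B := by
  refine Algebra.FormallySmooth.of_comp_surjective fun C _ _ J hJ u => ?_
  choose z hz using fun i => Ideal.Quotient.mk_surjective (u (x i))
  exact (existsUnique_lift hx C J ⟨2, hJ⟩ u z hz).exists.imp fun w h => h.1

end Groth.Agent.Lib.PBasis.Perfect
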