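import Groth.Agent.Lib.PBasis.Field
import Groth.Agent.Lib.PBasis.Perfect
import Groth.Agent.Lib.PBasis.MacLane
import Mathlib.RingTheory.Smooth.Field
import Mathlib.RingTheory.Kaehler.JacobiZariski
import Mathlib.RingTheory.AlgebraicIndependent.TranscendenceBasis
import Mathlib.Algebra.Field.ZMod

/-!
# Separable extensions: formal smoothness, imperfection, MacLane
-/

universe u v

namespace Groth.Agent.Lib.PBasis.Separable

open EGA41 TensorProduct Groth.Agent.Lib.PBasis.Basic Groth.Agent.Lib.PBasis.Field

variable {k K : Type u} [Field k] [Field K] [Algebra k K]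

/-- If `K` is formally smooth over `P`, formal smoothness over `k` is injectivity on differentials. -/
theorem formallySmooth_iff_injective (P : Type v) [Field P] [Algebra P k] [Algebra P K]
    [IsScalarTower P k K] [Algebra.FormallySmooth P K] :
    Algebra.FormallySmooth k K ↔
      Function.Injective (KaehlerDifferential.mapBaseChange P k K) := by
  constructor
  · intro h
    rw [injective_iff_map_eq_zero]
    intro x hx
    obtain ⟨y, rfl⟩ := (Algebra.H1Cotangent.exact_δ_mapBaseChange P k K x).1 hx
    rw [Subsingleton.elim y 0, map_zero]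
  · intro h
    refine ⟨Module.Projective.of_free, subsingleton_of_forall_eq 0 fun y => ?_⟩
    have h1 : Algebra.H1Cotangent.δ P k K y = 0 :=
      h (by rw [(Algebra.H1Cotangent.exact_δ_mapBaseChange P k K).apply_apply_eq_zero, map_zero])
    obtain ⟨z, rfl⟩ := (Algebra.H1Cotangent.exact_map_δ P k K y).1 h1
    rw [Subsingleton.elim z 0, map_zero]

section CharP

variable (p : ℕ) [Fact p.Prime] [CharP k p] [CharP K p]

theorem exists_pBasis' (P : Type u) [Field P] [Algebra P k] :
    ∃ B : Set k, IsPBasis p P (Subtype.val : B → k) := by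
  obtain ⟨B, -, -, hB⟩ := exists_pBasis (p := p) (k := P) (Set.univ : Set k) ∅ (Set.empty_subset _)
    isPGenerating_univ ((isPIndependent_set_iff (∅ : Set k)).2 fun a ha => ha.elim)
  exact ⟨B, hB⟩

variable (P : Type u) [Field P] [CharP P p] [PerfectRing P p] [Algebra P k] [Algebra P K]
  [IsScalarTower P k K]

omit [Algebra k K] [IsScalarTower P k K] [CharP k p] in
theorem mem_pPower_iff (y : K) : y ∈ pPowerSubalgebra p P K ↔ ∃ z : K, z ^ p = y :=
  ⟨fun h => ⟨_, Perfect.root_pow ⟨y, h⟩⟩, fun ⟨z, hz⟩ => hz ▸ pow_mem_pPower p z⟩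

theorem injective_of_isMacLane (h : MacLane.IsMacLane p k K) :
    Function.Injective (KaehlerDifferential.mapBaseChange P k K) := by
  classical
  obtain ⟨B, hB⟩ := exists_pBasis' (k := k) p P
  obtain ⟨b, hb⟩ := Deriv.exists_basis_kaehler hB
  have hind : IsPIndependent p P (fun i : B => algebraMap k K i) := by
    change LinearIndependent (pPowerSubalgebra p P K) _
    rw [linearIndependent_iff']
    intro T g hsum e he
    let bK := Module.Free.chooseBasis k K
    choose c hc using fun e => (mem_pPower_iff p P _).1 (g e).2
    let s := T.biUnion fun e => (bK.repr (c e)).support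
    have hexp : ∀ e ∈ T, c e ^ p = ∑ i ∈ s, (bK.repr (c e) i) ^ p • bK i ^ p := fun e he => by
      conv_lhs => rw [← bK.linearCombination_repr (c e), Finsupp.linearCombination_apply,
        Finsupp.sum, sum_pow_char]
      rw [Finset.sum_congr rfl fun i _ => smul_pow _ _ _]
      refine Finset.sum_subset (Finset.subset_biUnion_of_mem
        (fun e => (bK.repr (c e)).support) he) fun i _ hi => ?_
      rw [Finsupp.notMem_support_iff.1 hi, zero_pow (Fact.out : p.Prime).ne_zero, zero_smul]
    have hz : ∀ i ∈ s, ∑ e ∈ T, (bK.repr (c e) i) ^ p * monos p (Subtype.val : B → k) e = 0 := by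
      refine linearIndependent_iff'.1 (h _ bK bK.linearIndependent) s
        (fun i => ∑ e ∈ T, (bK.repr (c e) i) ^ p * monos p (Subtype.val : B → k) e) ?_
      rw [← hsum]
      simp_rw [Finset.sum_smul]
      rw [Finset.sum_comm]
      refine Finset.sum_congr rfl fun e he => ?_
      rw [Subalgebra.smul_def, smul_eq_mul, ← hc, hexp e he, Finset.sum_mul]
      refine Finset.sum_congr rfl fun i _ => ?_
      rw [mul_comm ((bK.repr (c e) i) ^ p), ← smul_smul, Algebra.smul_def, map_pMonomial]
      exact mul_comm _ _
    have hz' : ∀ i ∈ s, bK.repr (c e) i = 0 := fun i hi => by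
      have h0 := linearIndependent_iff'.1 hB.1 T
        (fun e => (⟨(bK.repr (c e) i) ^ p, pow_mem_pPower p _⟩ : pPowerSubalgebra p P k))
        (by rw [← hz i hi]; rfl) e he
      exact eq_zero_of_pow_eq_zero (congr_arg Subtype.val h0)
    refine Subtype.ext ((hc e).symm.trans ?_)
    rw [hexp e he, Finset.sum_eq_zero fun i hi => by
      rw [hz' i hi, zero_pow (Fact.out : p.Prime).ne_zero, zero_smul]]
    rfl
  have hli := isPIndependent_iff_D.1 hind
  rw [← LinearMap.ker_eq_bot]
  refine eq_bot_iff.2 fun z hz => ?_
  let bT := Algebra.TensorProduct.basis K b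
  have hmap : ∀ i, KaehlerDifferential.mapBaseChange P k K (bT i) =
      KaehlerDifferential.D P K (algebraMap k K i) := fun i => by
    rw [Algebra.TensorProduct.basis_apply, KaehlerDifferential.mapBaseChange_tmul, one_smul, hb,
      KaehlerDifferential.map_D]
  rw [Submodule.mem_bot, ← bT.linearCombination_repr z]
  rw [LinearMap.mem_ker, ← bT.linearCombination_repr z, Finsupp.apply_linearCombination] at hz
  rw [show (KaehlerDifferential.mapBaseChange P k K ∘ bT) =
    (fun i : B => KaehlerDifferential.D P K (algebraMap k K i)) from funext hmap] at hz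
  rw [linearIndependent_iff.1 hli _ hz, map_zero]

theorem isMacLane_of_injective
    (h : Function.Injective (KaehlerDifferential.mapBaseChange P k K)) :
    MacLane.IsMacLane p k K := by
  classical
  obtain ⟨B, hB⟩ := exists_pBasis' (k := k) p P
  obtain ⟨b, hb⟩ := Deriv.exists_basis_kaehler hB
  have hli : LinearIndependent K fun i : B => KaehlerDifferential.D P K (algebraMap k K i) := by
    let bT := Algebra.TensorProduct.basis K b
    have h1 := bT.linearIndependent.map' _ (LinearMap.ker_eq_bot.2 h)
    have h2 : (KaehlerDifferential.mapBaseChange P k K ∘ bT) =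
        (fun i : B => KaehlerDifferential.D P K (algebraMap k K i)) := funext fun i => by
      rw [Function.comp_apply, Algebra.TensorProduct.basis_apply,
        KaehlerDifferential.mapBaseChange_tmul, one_smul, hb, KaehlerDifferential.map_D]
    exact h2 ▸ h1
  have hind := isPIndependent_iff_D.2 hli
  intro s v hv
  rw [linearIndependent_iff']
  intro T g hsum i hi
  -- coordinates of the coefficients
  have hspan : ∀ j, g j ∈ Submodule.span (pPowerSubalgebra p P k)
      (Set.range (monos p (Subtype.val : B → k))) := fun j => by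
    rw [show Submodule.span (pPowerSubalgebra p P k)
      (Set.range (monos p (Subtype.val : B → k))) = ⊤ from hB.2]
    trivial
  choose l hl using fun j => Finsupp.mem_span_range_iff_exists_finsupp.1 (hspan j)
  choose c hc using fun j e => (mem_pPower_iff p P _).1 (l j e).2
  let E := T.biUnion fun j => (l j).support
  have hgj : ∀ j ∈ T, g j = ∑ e ∈ E, c j e ^ p * monos p (Subtype.val : B → k) e := fun j hj => by
    rw [← hl j, Finsupp.sum]
    refine (Finset.sum_subset (Finset.subset_biUnion_of_mem (fun j => (l j).support) hj)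
      fun e _ he => ?_).trans ?_
    · rw [Finsupp.notMem_support_iff.1 he, zero_smul]
    refine Finset.sum_congr rfl fun e _ => ?_
    rw [Subalgebra.smul_def, smul_eq_mul, hc]
  have hz : ∀ e ∈ E, ∑ j ∈ T, c j e • v j = 0 := fun e he => by
    have h0 := linearIndependent_iff'.1 hind E
      (fun e => (⟨(∑ j ∈ T, c j e • v j) ^ p, pow_mem_pPower p _⟩ : pPowerSubalgebra p P K)) ?_ e he
    · exact eq_zero_of_pow_eq_zero (congr_arg Subtype.val h0)
    · rw [← hsum]
      rw [Finset.sum_congr rfl fun j hj => congr_arg (· • v j ^ p) (hgj j hj)]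
      simp_rw [Finset.sum_smul]
      rw [Finset.sum_comm]
      refine Finset.sum_congr rfl fun e _ => ?_
      rw [Subalgebra.smul_def, smul_eq_mul]
      change (∑ j ∈ T, c j e • v j) ^ p * _ = _
      rw [sum_pow_char, Finset.sum_mul]
      refine Finset.sum_congr rfl fun j _ => ?_
      change (c j e • v j) ^ p * _ = (c j e ^ p * pMonomial _ e.1) • v j ^ p
      rw [smul_pow, mul_comm (c j e ^ p), ← smul_smul, Algebra.smul_def (pMonomial _ e.1),
        map_pMonomial]
      exact mul_comm _ _
  rw [hgj i hi]
  refine Finset.sum_eq_zero fun e he => ?_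
  rw [linearIndependent_iff'.1 hv T (fun j => c j e) (hz e he) i hi,
    zero_pow (Fact.out : p.Prime).ne_zero, zero_mul]

end CharP

variable (K) in
theorem formallySmooth_of_perfect_charP (p : ℕ) [Fact p.Prime] [CharP K p] (P : Type u) [Field P]
    [CharP P p] [PerfectRing P p] [Algebra P K] : Algebra.FormallySmooth P K := by
  obtain ⟨B, hB⟩ := exists_pBasis' (k := K) p P
  exact Perfect.formallySmooth hB

theorem formallySmooth_of_charZero (F : Type v) (L : Type u) [Field F] [Field L] [Algebra F L]
    [CharZero F] : Algebra.FormallySmooth F L := by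
  obtain ⟨s, hs⟩ := exists_isTranscendenceBasis F L
  haveI : Algebra.IsAlgebraic (IntermediateField.adjoin F (Set.range (Subtype.val : s → L))) L :=
    hs.isAlgebraic_field
  exact .of_algebraicIndependent_of_isSeparable hs.1

end Groth.Agent.Lib.PBasis.Separable
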