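import Groth.Agent.Lib.PBasis.Basic
import Mathlib.Algebra.TrivSqZeroExt.Basic
import Mathlib.RingTheory.Kaehler.Basic
import Mathlib.RingTheory.Derivation.Basic
import Mathlib.Algebra.CharP.Basic

/-!
# p-bases and derivations
-/

universe u v

namespace Groth.Agent.Lib.PBasis.Deriv

open EGA41 Groth.Agent.Lib.PBasis.Basic

variable {p : ℕ} {A B : Type u} [CommRing A] [CommRing B] [Algebra A B] {ι : Type u}

section Prime

variable [Fact p.Prime] [CharP B p]

theorem natCast_smul_eq_zero {L : Type*} [AddCommGroup L] [Module B L] (l : L) : p • l = 0 := by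
  rw [← Nat.cast_smul_eq_nsmul B, CharP.cast_eq_zero, zero_smul]

/-- Derivations kill p-th powers. -/
theorem derivation_pow_eq_zero {L : Type*} [AddCommGroup L] [Module B L] [Module A L]
    (D : Derivation A B L) (b : B) : D (b ^ p) = 0 := by
  rw [D.leibniz_pow, natCast_smul_eq_zero (B := B)]

/-- `A`-linear derivations kill `A[B^p]`. -/
theorem derivation_pPower_eq_zero {L : Type*} [AddCommGroup L] [Module B L] [Module A L]
    [IsScalarTower A B L] (D : Derivation A B L) {b : B} (hb : b ∈ pPowerSubalgebra p A B) :
    D b = 0 := by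
  refine Derivation.eqOn_adjoin (D1 := D) (D2 := 0) ?_ hb
  rintro _ ⟨c, rfl⟩
  simpa using derivation_pow_eq_zero D c

omit [Fact p.Prime] [CharP B p] in
theorem eq_of_eqOn {L : Type*} [AddCommGroup L] [Module B L] [Module A L] [IsScalarTower A B L]
    {x : ι → B} (hgen : Algebra.adjoin (pPowerSubalgebra p A B) (Set.range x) = ⊤)
    {D₁ D₂ : Derivation A B L} (h1 : ∀ b ∈ pPowerSubalgebra p A B, D₁ b = D₂ b)
    (h : ∀ i, D₁ (x i) = D₂ (x i)) : D₁ = D₂ := by
  refine Derivation.ext fun b => ?_
  have hb : b ∈ Algebra.adjoin (pPowerSubalgebra p A B) (Set.range x) := hgen ▸ Algebra.mem_top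
  induction hb using Algebra.adjoin_induction with
  | mem y hy =>
    obtain ⟨i, rfl⟩ := hy
    exact h i
  | algebraMap r => exact h1 _ r.2
  | add a b _ _ ha hb => rw [map_add, map_add, ha, hb]
  | mul a b _ _ ha hb => rw [Derivation.leibniz, Derivation.leibniz, ha, hb]

/-- The differentials of a generating family span. -/
theorem span_D_eq_top {x : ι → B}
    (hgen : Algebra.adjoin (pPowerSubalgebra p A B) (Set.range x) = ⊤) :
    Submodule.span B (Set.range fun i => KaehlerDifferential.D A B (x i)) = ⊤ := by
  set N := Submodule.span B (Set.range fun i => KaehlerDifferential.D A B (x i))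
  have h : N.mkQ.compDer (KaehlerDifferential.D A B) = 0 := by
    refine eq_of_eqOn hgen ?_ fun i => ?_
    · intro b hb
      rw [derivation_pPower_eq_zero _ hb]
      rfl
    · change N.mkQ (KaehlerDifferential.D A B (x i)) = 0
      exact (Submodule.Quotient.mk_eq_zero _).2 (Submodule.subset_span ⟨i, rfl⟩)
  refine top_le_iff.1 ((KaehlerDifferential.span_range_derivation A B).ge.trans
    (Submodule.span_le.2 ?_))
  rintro _ ⟨b, rfl⟩
  exact (Submodule.Quotient.mk_eq_zero N).1 (Derivation.congr_fun h b)

end Prime

/-- Derivations with prescribed values on a family whose monomials form a basis over `R`. -/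
theorem existsUnique_derivation (hp : 1 < p) {R : Type u} [CommRing R] [Algebra R B] [CharP B p]
    (x : ι → B) (c : ι → R) (hc : ∀ i, algebraMap R B (c i) = x i ^ p)
    (hli : LinearIndependent R (monos p x))
    (hsp : Submodule.span R (Set.range (monos p x)) = ⊤)
    {L : Type v} [AddCommGroup L] [Module B L] (D₀ : R → L)
    (hadd : ∀ r s, D₀ (r + s) = D₀ r + D₀ s)
    (hmul : ∀ r s, D₀ (r * s) = algebraMap R B r • D₀ s + algebraMap R B s • D₀ r)
    (hD₀ : ∀ i, D₀ (c i) = 0) (y : ι → L) :
    ∃! D : Derivation ℤ B L, (∀ r, D (algebraMap R B r) = D₀ r) ∧ ∀ i, D (x i) = y i := by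
  letI : Module Bᵐᵒᵖ L := Module.compHom L (RingEquiv.toOpposite B).symm.toRingHom
  haveI : IsCentralScalar B L := ⟨fun _ _ => rfl⟩
  have h1 : D₀ 1 = 0 := by
    have := hmul 1 1
    simpa using this
  have h0 : D₀ 0 = 0 := by
    have := hadd 0 0
    simpa using this
  let φ : R →+* TrivSqZeroExt B L :=
    { toFun := fun r => TrivSqZeroExt.inl (algebraMap R B r) + TrivSqZeroExt.inr (D₀ r)
      map_one' := by ext <;> simp [h1]
      map_mul' := fun r s => by ext <;> simp [hmul, add_comm]
      map_zero' := by ext <;> simp [h0]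
      map_add' := fun r s => by ext <;> simp [hadd] }
  letI : Algebra R (TrivSqZeroExt B L) := φ.toAlgebra
  haveI : CharP (TrivSqZeroExt B L) p := charP_of_injective_ringHom
    (f := TrivSqZeroExt.inlHom B L) TrivSqZeroExt.inl_injective p
  have hpow : ∀ z : TrivSqZeroExt B L, z ^ p = TrivSqZeroExt.inl (z.fst ^ p) := fun z => by
    refine TrivSqZeroExt.ext (by simp) ?_
    rw [TrivSqZeroExt.snd_pow, TrivSqZeroExt.snd_inl, ← Nat.cast_smul_eq_nsmul B,
      CharP.cast_eq_zero, zero_smul]
  let z : ι → TrivSqZeroExt B L := fun i => TrivSqZeroExt.inl (x i) + TrivSqZeroExt.inr (y i)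
  have hz : ∀ i, algebraMap R (TrivSqZeroExt B L) (c i) = z i ^ p := fun i => by
    rw [hpow]
    refine TrivSqZeroExt.ext ?_ ?_
    · simp [RingHom.algebraMap_toAlgebra, φ, z, hc]
    · simp [RingHom.algebraMap_toAlgebra, φ, hD₀]
  obtain ⟨v, hv, huniq⟩ := existsUnique_algHom hp x c hc hli hsp z hz
  have hfst : ∀ b, (v b).fst = b := by
    intro b
    have key : ∀ w : B →ₐ[R] B, (∀ i, w (x i) = x i) → w = AlgHom.id R B := fun w hw =>
      (existsUnique_algHom hp x c hc hli hsp x hc).unique hw fun i => rfl
    let w : B →ₐ[R] B :=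
      { toFun := fun b => (v b).fst
        map_one' := by simp
        map_mul' := fun a b => by simp
        map_zero' := by simp
        map_add' := fun a b => by simp
        commutes' := fun r => by simp [v.commutes, RingHom.algebraMap_toAlgebra, φ] }
    exact AlgHom.congr_fun (key w fun i => by
      change (v (x i)).fst = x i
      simp [hv, z]) b
  refine ⟨Derivation.mk'
    { toFun := fun b => (v b).snd
      map_add' := fun a b => by simp
      map_smul' := fun n a => by simp [Int.cast_smul_eq_zsmul] } (fun a b => ?_), ⟨fun r => ?_, fun i => ?_⟩,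
    fun D hD => ?_⟩
  · change (v (a * b)).snd = a • (v b).snd + b • (v a).snd
    simp [hfst]
  · change (v (algebraMap R B r)).snd = D₀ r
    simp [v.commutes, RingHom.algebraMap_toAlgebra, φ]
  · change (v (x i)).snd = y i
    simp [hv, z]
  · let w : B →ₐ[R] TrivSqZeroExt B L :=
      { toFun := fun b => TrivSqZeroExt.inl b + TrivSqZeroExt.inr (D b)
        map_one' := by ext <;> simp
        map_mul' := fun a b => by ext <;> simp [Derivation.leibniz, add_comm]
        map_zero' := by ext <;> simp
        map_add' := fun a b => by ext <;> simp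
        commutes' := fun r => by ext <;> simp [RingHom.algebraMap_toAlgebra, φ, hD.1] }
    have hw : w = v := huniq w fun i => by
      change TrivSqZeroExt.inl (x i) + TrivSqZeroExt.inr (D (x i)) = z i
      rw [hD.2 i]
    refine Derivation.ext fun b => ?_
    change D b = (v b).snd
    rw [← hw]
    simp [w]

variable [Fact p.Prime] [CharP B p]

/-- Extension of a derivation along a p-basis: the absolute version. -/
theorem existsUnique_derivation_A {x : ι → B} (hinj : Function.Injective (algebraMap A B))
    (hpow : ∀ b : B, b ^ p ∈ Set.range (algebraMap A B)) (hx : IsPBasis p A x)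
    {L : Type v} [AddCommGroup L] [Module B L] [Module A L] [IsScalarTower A B L]
    (D : Derivation ℤ A L) (hD : ∀ (a : A) (b : B), algebraMap A B a = b ^ p → D a = 0)
    (y : ι → L) :
    ∃! D' : Derivation ℤ B L, (∀ a, D' (algebraMap A B a) = D a) ∧ ∀ i, D' (x i) = y i := by
  choose c hc using fun i => hpow (x i)
  obtain ⟨hli, hsp⟩ := monos_basis_of_pBasis p hinj hpow hx
  exact existsUnique_derivation (Fact.out : p.Prime).one_lt x c hc hli hsp (fun a => D a)
    (fun r s => map_add D r s)
    (fun r s => by rw [D.leibniz, IsScalarTower.algebraMap_smul, IsScalarTower.algebraMap_smul])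
    (fun i => hD _ _ (hc i)) y

/-- `A`-derivations correspond to values on a p-basis. -/
theorem existsUnique_derivation_rel {x : ι → B} (hx : IsPBasis p A x)
    {L : Type v} [AddCommGroup L] [Module B L] [Module A L] [IsScalarTower A B L] (y : ι → L) :
    ∃! D : Derivation A B L, ∀ i, D (x i) = y i := by
  obtain ⟨D, ⟨hD0, hDy⟩, -⟩ := existsUnique_derivation (Fact.out : p.Prime).one_lt x (cP p x)
    (algebraMap_cP (A := A) p x) hx.1 hx.2 (fun _ => (0 : L)) (fun _ _ => (add_zero 0).symm)
    (fun _ _ => by simp) (fun _ => rfl) y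
  have hDA : ∀ a : A, D (algebraMap A B a) = 0 := fun a =>
    hD0 ⟨algebraMap A B a, (pPowerSubalgebra p A B).algebraMap_mem a⟩
  refine ⟨Derivation.mk'
    { toFun := fun b => D b
      map_add' := fun a b => map_add D a b
      map_smul' := fun a b => by
        simp only [RingHom.id_apply]
        rw [Algebra.smul_def, D.leibniz, hDA, smul_zero, add_zero,
          IsScalarTower.algebraMap_smul] } (fun a b => D.leibniz a b), hDy, fun D' hD' => ?_⟩
  refine eq_of_eqOn ((isPGenerating_iff p (Fact.out : p.Prime).one_lt x).1 hx.2) ?_ fun i => ?_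
  · intro b hb
    rw [derivation_pPower_eq_zero _ hb, derivation_pPower_eq_zero _ hb]
  · rw [hD' i]
    exact (hDy i).symm

/-- The differentials of a p-basis form a basis. -/
theorem exists_basis_kaehler {x : ι → B} (hx : IsPBasis p A x) :
    ∃ b : Module.Basis ι B (Ω[B⁄A]), ∀ i, b i = KaehlerDifferential.D A B (x i) := by
  classical
  have hgen := (isPGenerating_iff p (Fact.out : p.Prime).one_lt x).1 hx.2
  obtain ⟨D, hD, -⟩ := existsUnique_derivation_rel (L := ι →₀ B) hx fun i => Finsupp.single i 1
  have hli : LinearIndependent B fun i => KaehlerDifferential.D A B (x i) := by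
    refine LinearIndependent.of_comp D.liftKaehlerDifferential ?_
    have : (D.liftKaehlerDifferential ∘ fun i => KaehlerDifferential.D A B (x i)) =
        fun i => Finsupp.single i (1 : B) := funext fun i =>
      (Derivation.liftKaehlerDifferential_comp_D D (x i)).trans (hD i)
    rw [this]
    exact Finsupp.linearIndependent_single_one B ι
  exact ⟨Module.Basis.mk hli (span_D_eq_top hgen).ge, fun i => Module.Basis.mk_apply _ _ i⟩

end Groth.Agent.Lib.PBasis.Deriv
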