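import Groth.Agent.Lib.PBasis.FieldSmooth
import Groth.Agent.S4520
import Mathlib.Algebra.Module.LinearMap.Index
import Mathlib.RingTheory.Kaehler.Polynomial
import Mathlib.RingTheory.Etale.Kaehler
import Mathlib.RingTheory.Etale.Field
import Mathlib.RingTheory.AlgebraicIndependent.Adjoin
import Mathlib.RingTheory.AlgebraicIndependent.TranscendenceBasis
import Mathlib.FieldTheory.FinTrdeg
import Mathlib.FieldTheory.PurelyInseparable.Basic
import Mathlib.FieldTheory.SeparableClosure

/-!
# Cartier's equality

For a finitely generated field extension `L / K` the map `L ⊗ Ω_K → Ω_L` has finite index,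
equal to `- trdeg`.
-/

universe u

namespace Groth.Agent.Lib.PBasis.Cartier

open EGA41 TensorProduct

section Linear

variable {L M : Type u} [Field L] [Field M] [Algebra L M]

/-- A linear map with finite kernel and cokernel and given index. -/
def Good {V W : Type u} [AddCommGroup V] [Module L V] [AddCommGroup W] [Module L W]
    (f : V →ₗ[L] W) (n : ℤ) : Prop :=
  Module.Finite L (LinearMap.ker f) ∧ Module.Finite L (W ⧸ LinearMap.range f) ∧ f.index = n

theorem Good.comp {V W X : Type u} [AddCommGroup V] [Module L V] [AddCommGroup W] [Module L W]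
    [AddCommGroup X] [Module L X] {f : V →ₗ[L] W} {g : W →ₗ[L] X} {m n : ℤ}
    (hg : Good g m) (hf : Good f n) : Good (g ∘ₗ f) (m + n) := by
  obtain ⟨hf1, hf2, hf3⟩ := hf
  obtain ⟨hg1, hg2, hg3⟩ := hg
  refine ⟨?_, ?_, by rw [LinearMap.index_comp, hf3, hg3]⟩
  · rw [LinearMap.ker_comp]
    infer_instance
  · rw [LinearMap.range_comp]
    infer_instance

theorem Good.of_bijective {V W : Type u} [AddCommGroup V] [Module L V] [AddCommGroup W]
    [Module L W] {f : V →ₗ[L] W} (hf : Function.Bijective f) : Good f 0 := by
  haveI : Subsingleton (W ⧸ LinearMap.range f) :=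
    Submodule.Quotient.subsingleton_iff.2 (LinearMap.range_eq_top.2 hf.2)
  refine ⟨?_, inferInstance, ?_⟩
  · rw [LinearMap.ker_eq_bot.2 hf.1]
    infer_instance
  · exact (LinearEquiv.ofBijective f hf).index_eq_zero

theorem Good.baseChange {V W : Type u} [AddCommGroup V] [Module L V] [AddCommGroup W] [Module L W]
    {f : V →ₗ[L] W} {n : ℤ} (hf : Good f n) : Good (f.baseChange M) n := by
  obtain ⟨hk, hc, hn⟩ := hf
  have hker : LinearMap.ker (f.baseChange M) =
      LinearMap.range ((LinearMap.ker f).subtype.baseChange M) := by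
    apply SetLike.ext
    intro z
    exact Module.Flat.lTensor_exact M (LinearMap.exact_subtype_ker_map f) z
  have hinj : Function.Injective ((LinearMap.ker f).subtype.baseChange M) :=
    Module.Flat.lTensor_preserves_injective_linearMap _ Subtype.val_injective
  have hsurj : Function.Surjective ((LinearMap.range f).mkQ.baseChange M) :=
    LinearMap.lTensor_surjective M (Submodule.mkQ_surjective _)
  have hran : LinearMap.range (f.baseChange M) =
      LinearMap.ker ((LinearMap.range f).mkQ.baseChange M) := by
    apply SetLike.ext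
    intro z
    exact (lTensor_exact M (LinearMap.exact_map_mkQ_range f) (Submodule.mkQ_surjective _) z).symm
  let e1 : LinearMap.ker (f.baseChange M) ≃ₗ[M] M ⊗[L] LinearMap.ker f :=
    (LinearEquiv.ofEq _ _ hker).trans (LinearEquiv.ofInjective _ hinj).symm
  let e2 : ((M ⊗[L] W) ⧸ LinearMap.range (f.baseChange M)) ≃ₗ[M]
      M ⊗[L] (W ⧸ LinearMap.range f) :=
    (Submodule.quotEquivOfEq _ _ hran).trans (LinearMap.quotKerEquivOfSurjective _ hsurj)
  refine ⟨Module.Finite.equiv e1.symm, Module.Finite.equiv e2.symm, ?_⟩
  rw [LinearMap.index_eq_finrank_sub, e1.finrank_eq, e2.finrank_eq, Module.finrank_baseChange,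
    Module.finrank_baseChange, ← LinearMap.index_eq_finrank_sub, hn]

end Linear

/-- The index of `L / K`. -/
def HasIndex (K L : Type u) [Field K] [Field L] [Algebra K L] (n : ℤ) : Prop :=
  Good (KaehlerDifferential.mapBaseChange ℤ K L) n

variable {K L : Type u} [Field K] [Field L] [Algebra K L]

theorem range_eq_ker : LinearMap.range (KaehlerDifferential.mapBaseChange ℤ K L) =
    LinearMap.ker (KaehlerDifferential.map ℤ K L L) :=
  KaehlerDifferential.range_mapBaseChange ℤ K L

/-- The cokernel is the module of relative differentials. -/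
noncomputable def cokerEquiv :
    (Ω[L⁄ℤ] ⧸ LinearMap.range (KaehlerDifferential.mapBaseChange ℤ K L)) ≃ₗ[L] Ω[L⁄K] :=
  (Submodule.quotEquivOfEq _ _ range_eq_ker).trans
    (LinearMap.quotKerEquivOfSurjective _ (KaehlerDifferential.map_surjective ℤ K L))

theorem hasIndex_iff {n : ℤ} : HasIndex K L n ↔
    Module.Finite L (imperfection ℤ K L) ∧ Module.Finite L (Ω[L⁄K]) ∧
      (Module.finrank L (imperfection ℤ K L) : ℤ) - Module.finrank L (Ω[L⁄K]) = n := by
  simp only [HasIndex, Good, LinearMap.index_eq_finrank_sub, (cokerEquiv (K := K) (L := L)).finrank_eq,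
    imperfection]
  exact ⟨fun ⟨a, b, c⟩ => ⟨a, Module.Finite.equiv cokerEquiv, c⟩,
    fun ⟨a, b, c⟩ => ⟨a, Module.Finite.equiv cokerEquiv.symm, c⟩⟩

theorem HasIndex.trans {M : Type u} [Field M] [Algebra L M] [Algebra K M] [IsScalarTower K L M]
    {m n : ℤ} (h₁ : HasIndex K L n) (h₂ : HasIndex L M m) : HasIndex K M (m + n) := by
  let e := TensorProduct.AlgebraTensorModule.cancelBaseChange K L M M (Ω[K⁄ℤ])
  have heq : KaehlerDifferential.mapBaseChange ℤ K M =
      (KaehlerDifferential.mapBaseChange ℤ L M ∘ₗ
        (KaehlerDifferential.mapBaseChange ℤ K L).baseChange M) ∘ₗ e.symm.toLinearMap := by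
    refine TensorProduct.AlgebraTensorModule.ext fun x ω => ?_
    simp only [e, LinearMap.comp_apply, LinearEquiv.coe_coe,
      TensorProduct.AlgebraTensorModule.cancelBaseChange_symm_tmul, LinearMap.baseChange_tmul,
      KaehlerDifferential.mapBaseChange_tmul, one_smul]
    congr 1
    have h2 : (KaehlerDifferential.map ℤ ℤ L M).restrictScalars K ∘ₗ
          (KaehlerDifferential.map ℤ ℤ K L) = KaehlerDifferential.map ℤ ℤ K M := by
      refine Derivation.liftKaehlerDifferential_unique _ _ (Derivation.ext fun b => ?_)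
      simp [← IsScalarTower.algebraMap_apply]
    exact (LinearMap.congr_fun h2 ω).symm
  have h := (h₂.comp h₁.baseChange).comp (Good.of_bijective e.symm.bijective)
  rw [← heq, add_zero] at h
  exact h

theorem hasIndex_of_formallySmooth [Algebra.FormallySmooth K L] [Module.Finite L (Ω[L⁄K])] :
    HasIndex K L (- (Module.finrank L (Ω[L⁄K]) : ℤ)) := by
  have hinj := FieldSmooth.formallySmooth_iff_injective_int.1 (‹_› : Algebra.FormallySmooth K L)
  rw [hasIndex_iff]
  have hbot : imperfection ℤ K L = ⊥ := LinearMap.ker_eq_bot.2 hinj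
  refine ⟨?_, inferInstance, ?_⟩
  · rw [hbot]
    infer_instance
  · rw [hbot, finrank_bot]
    simp

theorem hasIndex_of_isSeparable [Algebra.IsSeparable K L] : HasIndex K L 0 := by
  haveI := Algebra.FormallyEtale.of_isSeparable K L
  haveI : Subsingleton (Ω[L⁄K]) := inferInstance
  have h := hasIndex_of_formallySmooth (K := K) (L := L)
  rwa [Module.finrank_zero_of_subsingleton, Nat.cast_zero, neg_zero] at h

/-- Extensions with `L ^ p ⊆ K`. -/
theorem hasIndex_of_pow_mem (p : ℕ) [Fact p.Prime] [CharP L p] [Module.Finite K L]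
    (hpow : ∀ b : L, b ^ p ∈ Set.range (algebraMap K L)) : HasIndex K L 0 := by
  haveI : CharP K p := RingHom.charP (algebraMap K L) (algebraMap K L).injective p
  haveI : ExpChar L p := ExpChar.prime Fact.out
  let R : Subfield K := (frobenius L p).fieldRange.comap (algebraMap K L)
  have hR : Set.range (algebraMap R L) = Set.range fun b : L => b ^ p := by
    ext z
    constructor
    · rintro ⟨⟨a, ha⟩, rfl⟩
      obtain ⟨b, hb⟩ := (ha : algebraMap K L a ∈ (frobenius L p).fieldRange)
      exact ⟨b, hb⟩
    · rintro ⟨b, rfl⟩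
      obtain ⟨a, ha⟩ := hpow b
      exact ⟨⟨a, b, ha.symm⟩, ha⟩
  obtain ⟨S, hS⟩ := Separable.exists_pBasis' (k := L) p K
  obtain ⟨T, hT⟩ := Separable.exists_pBasis' (k := K) p R
  choose x' hx' using fun i : S => hpow (i : L)
  obtain ⟨bΥ, -⟩ := Groth.Agent.S4520.result p (R := R) (A := K) (B := L)
    (algebraMap K L).injective hpow hR (Subtype.val : S → L) hS x' hx' (Subtype.val : T → K) hT
  obtain ⟨bΩ, -⟩ := Deriv.exists_basis_kaehler hS
  haveI : Module.Finite L (Ω[L⁄K]) := inferInstance
  haveI : Finite S := Module.Finite.finite_basis bΩ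
  rw [hasIndex_iff]
  refine ⟨Module.Finite.of_basis bΥ, inferInstance, ?_⟩
  rw [Module.finrank_eq_nat_card_basis bΥ, Module.finrank_eq_nat_card_basis bΩ, sub_self]

theorem hasIndex_of_isPurelyInseparable [FiniteDimensional K L] [IsPurelyInseparable K L] :
    HasIndex K L 0 := by
  suffices H : ∀ N : ℕ, ∀ (F E : Type u) [Field F] [Field E] [Algebra F E] [FiniteDimensional F E]
      [IsPurelyInseparable F E], Module.finrank F E = N → HasIndex F E 0 from H _ K L rfl
  intro N
  induction N using Nat.strong_induction_on with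
  | _ N ih =>
  intro F E _ _ _ _ _ hN
  by_cases hsurj : Function.Surjective (algebraMap F E)
  · haveI : Algebra.IsSeparable F E := ⟨fun z => by
      obtain ⟨a, rfl⟩ := hsurj z
      exact isSeparable_algebraMap a⟩
    exact hasIndex_of_isSeparable
  obtain ⟨p, hp⟩ := ExpChar.exists F
  obtain hp0 | hprime := hp
  · refine absurd (fun z => ?_) hsurj
    obtain ⟨n, a, ha⟩ := IsPurelyInseparable.pow_mem F 1 z
    exact ⟨a, by simpa using ha⟩
  haveI : Fact p.Prime := ⟨by assumption⟩
  haveI : ExpChar F p := ExpChar.prime Fact.out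
  haveI : CharP E p := charP_of_injective_algebraMap (algebraMap F E).injective p
  haveI : ExpChar E p := ExpChar.prime Fact.out
  classical
  obtain ⟨z, hz⟩ := not_forall.1 hsurj
  have hex : ∃ n, z ^ p ^ n ∈ Set.range (algebraMap F E) := IsPurelyInseparable.pow_mem F p z
  have hpos : Nat.find hex ≠ 0 := fun h0 => hz (by
    have h1 := Nat.find_spec hex
    rw [h0, pow_zero, pow_one] at h1
    exact h1)
  obtain ⟨m, hm⟩ := Nat.exists_eq_succ_of_ne_zero hpos
  let w : E := z ^ p ^ m
  have hw : w ∉ Set.range (algebraMap F E) := Nat.find_min hex (by omega)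
  have hwp : w ^ p ∈ Set.range (algebraMap F E) := by
    have h1 := Nat.find_spec hex
    rwa [hm, pow_succ, pow_mul] at h1
  let G := IntermediateField.adjoin F ({w} : Set E)
  have hG : ∀ b : G, b ^ p ∈ Set.range (algebraMap F G) := by
    have hle : G ≤ ((⊥ : IntermediateField F E).toSubfield.comap (frobenius E p)).toIntermediateField
        (fun a => pow_mem (IntermediateField.algebraMap_mem ⊥ a) p) := by
      rw [IntermediateField.adjoin_le_iff, Set.singleton_subset_iff]
      exact IntermediateField.mem_bot.2 hwp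
    intro b
    obtain ⟨a, ha⟩ := IntermediateField.mem_bot.1 (hle b.2)
    exact ⟨a, Subtype.ext ha⟩
  have h1 : HasIndex F G 0 := hasIndex_of_pow_mem p hG
  have hlt : Module.finrank G E < N := by
    have hmul := Module.finrank_mul_finrank F G E
    rw [hN] at hmul
    have hG1 : 1 < Module.finrank F G := by
      by_contra hle
      have : Module.finrank F G = 1 := le_antisymm (not_lt.1 hle) Module.finrank_pos
      rw [IntermediateField.finrank_eq_one_iff] at this
      exact hw (IntermediateField.mem_bot.1 (this ▸ IntermediateField.subset_adjoin F _ rfl))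
    rw [← hmul]
    exact lt_mul_of_one_lt_left Module.finrank_pos hG1
  haveI : IsPurelyInseparable G E := IsPurelyInseparable.tower_top F G E
  have h2 : HasIndex G E 0 := ih _ hlt G E rfl
  simpa using h1.trans h2

theorem hasIndex_of_finite [FiniteDimensional K L] : HasIndex K L 0 := by
  have h1 : HasIndex K (separableClosure K L) 0 := hasIndex_of_isSeparable
  have h2 : HasIndex (separableClosure K L) L 0 := hasIndex_of_isPurelyInseparable
  simpa using h1.trans h2

/-- Cartier's equality. -/
theorem hasIndex_trdeg [Algebra.EssFiniteType K L] :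
    HasIndex K L (- (Cardinal.toNat (Algebra.trdeg K L) : ℤ)) := by
  obtain ⟨s, hs⟩ := exists_isTranscendenceBasis K L
  haveI : Finite s := finite_of_isTranscendenceBasis hs
  haveI := Fintype.ofFinite s
  let x : s → L := Subtype.val
  let G := IntermediateField.adjoin K (Set.range x)
  let P := MvPolynomial s K
  let φ : P →ₐ[K] G := hs.1.aevalEquivField.toAlgHom.comp (IsScalarTower.toAlgHom K P _)
  letI : Algebra P G := φ.toRingHom.toAlgebra
  haveI : IsScalarTower K P G := IsScalarTower.of_algebraMap_eq fun a => (φ.commutes a).symm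
  let eP : FractionRing P ≃ₐ[P] G :=
    AlgEquiv.ofRingEquiv (f := hs.1.aevalEquivField.toRingEquiv) fun a => rfl
  haveI : IsFractionRing P G := IsLocalization.isLocalization_of_algEquiv _ eP
  haveI : Algebra.FormallyEtale P G := Algebra.FormallyEtale.of_isLocalization (nonZeroDivisors P)
  haveI : Algebra.FormallySmooth K G := Algebra.FormallySmooth.comp K P G
  let eΩ := KaehlerDifferential.tensorKaehlerEquivOfFormallyEtale K P G
  let bP := KaehlerDifferential.mvPolynomialBasis K s
  let bG := (bP.baseChange G).map eΩ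
  haveI : Module.Finite G (Ω[G⁄K]) := Module.Finite.of_basis bG
  have hdim : Module.finrank G (Ω[G⁄K]) = Nat.card s := Module.finrank_eq_nat_card_basis bG
  have h1 : HasIndex K G (- (Nat.card s : ℤ)) := by
    have h := hasIndex_of_formallySmooth (K := K) (L := G)
    rwa [hdim] at h
  haveI : Algebra.IsAlgebraic G L := hs.isAlgebraic_field
  haveI : Algebra.EssFiniteType G L := Algebra.EssFiniteType.of_comp K G L
  haveI : FiniteDimensional G L := Algebra.finite_of_essFiniteType_of_isAlgebraic
  have h2 : HasIndex G L 0 := hasIndex_of_finite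
  have h3 := h1.trans h2
  rw [zero_add] at h3
  rwa [← hs.cardinalMk_eq_trdeg, ← Nat.card]

/-- The inequality over an arbitrary base. -/
theorem finrank_imperfection_le {k : Type u} [Field k] [Algebra k K] [Algebra k L]
    [IsScalarTower k K L] [Module.Finite L (imperfection ℤ K L)] :
    Module.Finite L (imperfection k K L) ∧
      Module.finrank L (imperfection k K L) ≤ Module.finrank L (imperfection ℤ K L) := by
  let q : L ⊗[K] Ω[K⁄ℤ] →ₗ[L] L ⊗[K] Ω[K⁄k] := (KaehlerDifferential.map ℤ k K K).baseChange L
  have hq : Function.Surjective q :=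
    LinearMap.lTensor_surjective L (KaehlerDifferential.map_surjective ℤ k K)
  have hcomm : ∀ v, KaehlerDifferential.mapBaseChange k K L (q v) =
      KaehlerDifferential.map ℤ k L L (KaehlerDifferential.mapBaseChange ℤ K L v) := by
    intro v
    induction v using TensorProduct.induction_on with
    | zero => simp
    | add a b ha hb => simp [ha, hb]
    | tmul x ω =>
      simp only [q, LinearMap.baseChange_tmul, KaehlerDifferential.mapBaseChange_tmul, map_smul]
      congr 1
      have h2 : (KaehlerDifferential.map k k K L).restrictScalars K ∘ₗ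
            (KaehlerDifferential.map ℤ k K K) =
          (KaehlerDifferential.map ℤ k L L).restrictScalars K ∘ₗ
            (KaehlerDifferential.map ℤ ℤ K L) := by
        refine Derivation.liftKaehlerDifferential_unique _ _ (Derivation.ext fun b => ?_)
        simp
      exact LinearMap.congr_fun h2 ω
  have hsub : ∀ y : imperfection ℤ K L, q y.1 ∈ imperfection k K L := fun y => by
    change KaehlerDifferential.mapBaseChange k K L (q y.1) = 0
    rw [hcomm, show KaehlerDifferential.mapBaseChange ℤ K L y.1 = 0 from y.2, map_zero]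
  let ψ : imperfection ℤ K L →ₗ[L] imperfection k K L :=
    LinearMap.codRestrict _ (q ∘ₗ (imperfection ℤ K L).subtype) hsub
  have hψ : Function.Surjective ψ := by
    rintro ⟨w, hw⟩
    obtain ⟨v, rfl⟩ := hq w
    have hv : KaehlerDifferential.mapBaseChange ℤ K L v ∈
        LinearMap.ker (KaehlerDifferential.map ℤ k L L) := by
      rw [LinearMap.mem_ker, ← hcomm]
      exact hw
    rw [← KaehlerDifferential.range_mapBaseChange ℤ k L] at hv
    obtain ⟨t, ht⟩ := hv
    let ι := KaehlerDifferential.map ℤ ℤ k K
    let j : L ⊗[k] Ω[k⁄ℤ] →ₗ[L] L ⊗[K] Ω[K⁄ℤ] :=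
      LinearMap.liftBaseChange L
        (((TensorProduct.mk K L (Ω[K⁄ℤ]) 1).restrictScalars k) ∘ₗ ι)
    have hj : KaehlerDifferential.mapBaseChange ℤ K L (j t) =
        KaehlerDifferential.mapBaseChange ℤ k L t ∧ q (j t) = 0 := by
      clear ht
      induction t using TensorProduct.induction_on with
      | zero => simp
      | add a b ha hb => simp [ha, hb]
      | tmul x ω =>
        have h2 : (KaehlerDifferential.map ℤ ℤ K L).restrictScalars k ∘ₗ ι =
            KaehlerDifferential.map ℤ ℤ k L := by
          refine Derivation.liftKaehlerDifferential_unique _ _ (Derivation.ext fun b => ?_)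
          simp [ι, ← IsScalarTower.algebraMap_apply]
        have h3 : (KaehlerDifferential.map ℤ k K K).restrictScalars k ∘ₗ ι = 0 := by
          refine Derivation.liftKaehlerDifferential_unique _ _ (Derivation.ext fun b => ?_)
          simp [ι]
        have h2' := LinearMap.congr_fun h2 ω
        have h3' := LinearMap.congr_fun h3 ω
        simp only [LinearMap.comp_apply, LinearMap.coe_restrictScalars, LinearMap.zero_apply] at h2' h3'
        refine ⟨?_, ?_⟩
        · have hjx : j (x ⊗ₜ[k] ω) = x • ((1 : L) ⊗ₜ[K] ι ω) := LinearMap.liftBaseChange_tmul ..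
          rw [hjx, map_smul, KaehlerDifferential.mapBaseChange_tmul, one_smul,
            KaehlerDifferential.mapBaseChange_tmul]
          exact congrArg (x • ·) h2'
        · have hjx : j (x ⊗ₜ[k] ω) = x • ((1 : L) ⊗ₜ[K] ι ω) := LinearMap.liftBaseChange_tmul ..
          rw [hjx, map_smul]
          dsimp only [q]
          rw [LinearMap.baseChange_tmul, h3', TensorProduct.tmul_zero, smul_zero]
    refine ⟨⟨v - j t, ?_⟩, Subtype.ext ?_⟩
    · change KaehlerDifferential.mapBaseChange ℤ K L (v - j t) = 0
      rw [map_sub, hj.1, ht, sub_self]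
    · change q (v - j t) = q v
      rw [map_sub, hj.2, sub_zero]
  exact ⟨Module.Finite.of_surjective ψ hψ,
    LinearMap.finrank_le_finrank_of_surjective hψ⟩

end Groth.Agent.Lib.PBasis.Cartier
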