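import Groth.Agent.Lib.PBasis.Field
import Mathlib.RingTheory.Flat.Basic
import Mathlib.LinearAlgebra.Dimension.Finite

/-!
# Directed families of subfields and p-independence
-/

universe u

open TensorProduct EGA41

namespace Groth.Agent.Lib.PBasis.Eventual

open Groth.Agent.Lib.PBasis.Basic Groth.Agent.Lib.PBasis.Deriv Groth.Agent.Lib.PBasis.Field

variable {K : Type u} [Field K]

/-- Linear independence over the intersection of a directed family of subfields holds eventually. -/
theorem eventually_relations {ι : Type*} [Preorder ι] [IsDirected ι (· ≤ ·)] [Nonempty ι]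
    (F : ι → Subfield K) (hF : ∀ i j, i ≤ j → F j ≤ F i) {J : Type*} [Fintype J] (v : J → K)
    (h : ∀ g : J → K, (∀ a, ∀ i, g a ∈ F i) → ∑ a, g a * v a = 0 → g = 0) :
    ∃ i₀, ∀ i, i₀ ≤ i → ∀ g : J → K, (∀ a, g a ∈ F i) → ∑ a, g a * v a = 0 → g = 0 := by
  classical
  suffices ∀ s : Finset J, ∃ i₀, ∀ i, i₀ ≤ i → ∀ g : J → K, (∀ a, g a ∈ F i) →
      (∀ a ∉ s, g a = 0) → ∑ a, g a * v a = 0 → g = 0 by
    obtain ⟨i₀, hi₀⟩ := this Finset.univ
    exact ⟨i₀, fun i hi g hg hsum => hi₀ i hi g hg (fun a ha => absurd (Finset.mem_univ a) ha) hsum⟩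
  intro s
  induction s using Finset.induction_on with
  | empty =>
    obtain ⟨i⟩ := ‹Nonempty ι›
    exact ⟨i, fun _ _ g _ hg _ => funext fun a => hg a (Finset.notMem_empty a)⟩
  | @insert b s hb ih =>
    obtain ⟨i₁, hi₁⟩ := ih
    by_contra hne
    simp only [not_exists, not_forall] at hne
    -- a normalised relation above every index
    have hex : ∀ i, ∃ j, i ≤ j ∧ i₁ ≤ j ∧ ∃ g : J → K, (∀ a, g a ∈ F j) ∧
        (∀ a ∉ insert b s, g a = 0) ∧ ∑ a, g a * v a = 0 ∧ g b = 1 := fun i => by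
      obtain ⟨l, hl, hl₁⟩ := directed_of (· ≤ ·) i i₁
      obtain ⟨j, hj, g, hg, hgs, hsum, hg0⟩ := hne l
      have hgb : g b ≠ 0 := fun h0 => hg0 (hi₁ j (hl₁.trans hj) g hg (fun a ha => by
        by_cases hab : a = b
        · exact hab ▸ h0
        · exact hgs a (by simp [hab, ha])) hsum)
      refine ⟨j, hl.trans hj, hl₁.trans hj, fun a => (g b)⁻¹ * g a,
        fun a => (F j).mul_mem ((F j).inv_mem (hg b)) (hg a), fun a ha => by simp [hgs a ha], ?_,
        inv_mul_cancel₀ hgb⟩
      simp only [mul_assoc, ← Finset.mul_sum, hsum, mul_zero]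
    obtain ⟨j₀, -, hj₀, g₀, hg₀, hg₀s, hsum₀, hg₀b⟩ := hex i₁
    have hall : ∀ a i, g₀ a ∈ F i := fun a i => by
      obtain ⟨j, hj, hj₁, g, hg, hgs, hsum, hgb⟩ := hex i
      have h0 : g - g₀ = 0 := hi₁ i₁ le_rfl _
        (fun a => (F i₁).sub_mem (hF _ _ hj₁ (hg a)) (hF _ _ hj₀ (hg₀ a))) (fun a ha => by
          by_cases hab : a = b
          · simp [hab, hgb, hg₀b]
          · simp [hgs a (by simp [hab, ha]), hg₀s a (by simp [hab, ha])]) (by
          simp [sub_mul, Finset.sum_sub_distrib, hsum, hsum₀])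
      rw [← sub_eq_zero.1 h0]
      exact hF _ _ hj (hg a)
    exact one_ne_zero (hg₀b.symm.trans (congr_fun (h g₀ hall hsum₀) b))

variable {p : ℕ} [Fact p.Prime] [CharP K p]

theorem mem_FF_empty_iff (P : Type u) [Field P] [Algebra P K] (y : K) :
    y ∈ FF p P (∅ : Set K) ↔ y ∈ pPowerSubalgebra p P K := by
  rw [← SetLike.mem_coe, coe_FF, SetLike.mem_coe, Algebra.adjoin_empty, Algebra.mem_bot]
  exact ⟨fun ⟨z, hz⟩ => hz ▸ z.2, fun h => ⟨⟨y, h⟩, rfl⟩⟩

theorem mem_pPowerSubalgebra_of_D_eq_zero {P : Type u} [Field P] [Algebra P K] {y : K}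
    (h : KaehlerDifferential.D P K y = 0) : y ∈ pPowerSubalgebra p P K := by
  by_contra hy
  have hind : IsPIndependent p P (fun _ : PUnit.{u + 1} => y) := by
    rw [isPIndependent_iff]
    intro a
    rw [show (fun _ : PUnit.{u + 1} => y) '' {b | b ≠ a} = ∅ by
      simp [Subsingleton.elim _ a]]
    exact fun h' => hy ((mem_FF_empty_iff P y).1 h')
  exact (isPIndependent_iff_D.1 hind).ne_zero PUnit.unit h

variable {P₀ : Type u} [Field P₀] [Algebra P₀ K] {ι : Type*} [Preorder ι] [IsDirected ι (· ≤ ·)]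
  [Nonempty ι] (P : ι → Type u) [∀ i, Field (P i)] [∀ i, Algebra (P i) K]

/-- Differentials that are independent over the intersection are independent eventually. -/
theorem eventually_linearIndependent_D
    (hanti : ∀ i j, i ≤ j → ∀ y ∈ pPowerSubalgebra p (P j) K, y ∈ pPowerSubalgebra p (P i) K)
    (hint : ∀ y, (∀ i, y ∈ pPowerSubalgebra p (P i) K) → y ∈ pPowerSubalgebra p P₀ K)
    {J : Type u} [Finite J] (c : J → K)
    (hc : LinearIndependent K fun a => KaehlerDifferential.D P₀ K (c a)) :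
    ∃ i₀, ∀ i, i₀ ≤ i → LinearIndependent K fun a => KaehlerDifferential.D (P i) K (c a) := by
  classical
  haveI : Fintype {e : J →₀ ℕ // ∀ a, e a < p} := by
    haveI := Fintype.ofFinite J
    exact Fintype.ofInjective (fun e a => (⟨e.1 a, e.2 a⟩ : Fin p)) fun e f h =>
      Subtype.ext (Finsupp.ext fun a => congr_arg Fin.val (congr_fun h a))
  have h0 := Fintype.linearIndependent_iff.1
    ((isPIndependent_iff_D (p := p) (k := P₀) (x := c)).2 hc)
  obtain ⟨i₀, hi₀⟩ := eventually_relations (fun i => (FF p (P i) (∅ : Set K)).toSubfield)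
    (fun i j hij y hy => (mem_FF_empty_iff (P i) y).2 (hanti i j hij y ((mem_FF_empty_iff (P j) y).1 hy)))
    (fun e : {e : J →₀ ℕ // ∀ a, e a < p} => pMonomial c e.1) fun g hg hsum => by
      funext e
      refine congr_arg Subtype.val (h0 (fun e => ⟨g e,
        hint _ fun i => (mem_FF_empty_iff (P i) _).1 (hg e i)⟩) ?_ e)
      simpa [Subalgebra.smul_def] using hsum
  refine ⟨i₀, fun i hi => isPIndependent_iff_D.1 (Fintype.linearIndependent_iff.2 fun g hg e => ?_)⟩
  refine Subtype.ext (congr_fun (hi₀ i hi (fun e => (g e : K))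
    (fun e => (mem_FF_empty_iff (P i) _).2 (g e).2) ?_) e)
  simpa [Subalgebra.smul_def] using hg

/-- A finite space of base-changed differentials eventually injects. -/
theorem eventually_ker_inf_eq_bot {L : Type u} [Field L] [Algebra K L]
    (hanti : ∀ i j, i ≤ j → ∀ y ∈ pPowerSubalgebra p (P j) K, y ∈ pPowerSubalgebra p (P i) K)
    (hint : ∀ y, (∀ i, y ∈ pPowerSubalgebra p (P i) K) → y ∈ pPowerSubalgebra p P₀ K)
    (f : ∀ i, Ω[K⁄P₀] →ₗ[K] Ω[K⁄P i])
    (hf : ∀ i y, f i (KaehlerDifferential.D P₀ K y) = KaehlerDifferential.D (P i) K y)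
    (W : Submodule L (L ⊗[K] Ω[K⁄P₀])) [Module.Finite L W] :
    ∃ i₀, ∀ i, i₀ ≤ i → ∀ w ∈ W, (f i).baseChange L w = 0 → w = 0 := by
  classical
  obtain ⟨B, -, -, hB⟩ := exists_pBasis (p := p) (k := P₀) (K := K) Set.univ ∅ (Set.empty_subset _)
    isPGenerating_univ (isPIndependent_set_iff (∅ : Set K) |>.2 (by simp))
  obtain ⟨b, hb⟩ := isPBasis_iff_D.1 hB
  let bL := b.baseChange L
  obtain ⟨T, hT⟩ := Module.Finite.fg_top (R := L) (M := W)
  let F : Finset B := T.biUnion fun w => (bL.repr (w : L ⊗[K] Ω[K⁄P₀])).support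
  have hWF : W ≤ Submodule.span L (bL '' (F : Set B)) := by
    have h1 := congr_arg (Submodule.map W.subtype) hT
    rw [Submodule.map_span, Submodule.map_top, Submodule.range_subtype] at h1
    rw [← h1, Submodule.span_le]
    rintro _ ⟨x, hx, rfl⟩
    rw [SetLike.mem_coe, Module.Basis.mem_span_image]
    exact fun a ha => Finset.mem_biUnion.2 ⟨x, hx, ha⟩
  let c : F → K := fun a => ((a : B) : K)
  obtain ⟨i₀, hi₀⟩ := eventually_linearIndependent_D P hanti hint c (by
    have h1 : (fun a : F => KaehlerDifferential.D P₀ K (c a)) = b ∘ fun a : F => (a : B) :=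
      funext fun a => (hb a).symm
    rw [h1]
    exact b.linearIndependent.comp _ Subtype.val_injective)
  refine ⟨i₀, fun i hi w hw h0 => ?_⟩
  have hli : Function.Injective
      ((Finsupp.linearCombination K fun a : F => KaehlerDifferential.D (P i) K (c a)).baseChange L) :=
    Module.Flat.lTensor_preserves_injective_linearMap _ (hi₀ i hi)
  obtain ⟨r, hr⟩ : ∃ r : L ⊗[K] (F →₀ K), (Finsupp.linearCombination K fun a : F =>
      b (a : B)).baseChange L r = w := by
    suffices Submodule.span L (bL '' (F : Set B)) ≤ LinearMap.range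
        ((Finsupp.linearCombination K fun a : F => b (a : B)).baseChange L) from this (hWF hw)
    rw [Submodule.span_le]
    rintro _ ⟨a, ha, rfl⟩
    exact ⟨(1 : L) ⊗ₜ Finsupp.single ⟨a, ha⟩ 1, by simp [bL]⟩
  have hcomp : f i ∘ₗ (Finsupp.linearCombination K fun a : F => b (a : B)) =
      Finsupp.linearCombination K fun a : F => KaehlerDifferential.D (P i) K (c a) :=
    Finsupp.lhom_ext fun a x => by simp [hb, hf, c]
  have hr0 : r = 0 := by
    refine hli ?_
    rw [← hcomp, LinearMap.baseChange_comp, LinearMap.comp_apply, hr, h0, map_zero]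
  rw [← hr, hr0, map_zero]

/-- The kernels decrease. -/
theorem exists_factor {P Q : Type u} [Field P] [Field Q] [Algebra P K] [Algebra Q K]
    (h : ∀ a : Q, algebraMap Q K a ∈ pPowerSubalgebra p P K) :
    ∃ g : Ω[K⁄Q] →ₗ[K] Ω[K⁄P],
      ∀ y, g (KaehlerDifferential.D Q K y) = KaehlerDifferential.D P K y := by
  let D : Derivation Q K (Ω[K⁄P]) := Derivation.mk'
    { toFun := KaehlerDifferential.D P K
      map_add' := map_add _
      map_smul' := fun a y => by
        rw [RingHom.id_apply, Algebra.smul_def, Derivation.leibniz,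
          derivation_pPower_eq_zero _ (h a), smul_zero, add_zero, algebraMap_smul] }
    (fun x y => (KaehlerDifferential.D P K).leibniz x y)
  exact ⟨D.liftKaehlerDifferential, fun y => Derivation.liftKaehlerDifferential_comp_D D y⟩

end Groth.Agent.Lib.PBasis.Eventual
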