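import Groth.Agent.Lib.PBasis.Deriv
import Mathlib.FieldTheory.IntermediateField.Adjoin.Basic
import Mathlib.FieldTheory.IntermediateField.Algebraic
import Mathlib.FieldTheory.KummerPolynomial
import Mathlib.Algebra.CharP.Reduced
import Mathlib.Order.Zorn

/-!
# p-independence in fields
-/

universe u

namespace Groth.Agent.Lib.PBasis.Field

open EGA41 Groth.Agent.Lib.PBasis.Basic Groth.Agent.Lib.PBasis.Deriv

variable (p : ℕ) [Fact p.Prime] (k : Type u) {K : Type u} [Field k] [Field K] [Algebra k K]
  [CharP K p]

/-- `k(K^p, s)`. -/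
def FF (s : Set K) : IntermediateField k K :=
  IntermediateField.adjoin k ((Set.range fun y : K => y ^ p) ∪ s)

variable {p k}

theorem pow_mem_FF (s : Set K) (y : K) : y ^ p ∈ FF p k s :=
  IntermediateField.subset_adjoin _ _ (Or.inl ⟨y, rfl⟩)

theorem subset_FF (s : Set K) : s ⊆ FF p k s := fun _ hy =>
  IntermediateField.subset_adjoin _ _ (Or.inr hy)

theorem FF_mono {s t : Set K} (h : s ⊆ t) : FF p k s ≤ FF p k t :=
  IntermediateField.adjoin.mono _ _ _ (Set.union_subset_union_right _ h)

theorem FF_le {s t : Set K} (h : s ⊆ FF p k t) : FF p k s ≤ FF p k t := by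
  refine IntermediateField.adjoin_le_iff.2 (Set.union_subset ?_ h)
  rintro _ ⟨y, rfl⟩
  exact pow_mem_FF t y

theorem restrict_adjoin_FF (s t : Set K) :
    (IntermediateField.adjoin (FF p k s) t).restrictScalars k = FF p k (s ∪ t) := by
  rw [FF, IntermediateField.adjoin_adjoin_left, FF, Set.union_assoc]

theorem coe_FF (s : Set K) :
    (FF p k s : Set K) = (Algebra.adjoin (pPowerSubalgebra p k K) s : Set K) := by
  set S := Algebra.adjoin (pPowerSubalgebra p k K) s
  have hpw : ∀ y : K, y ^ p ∈ S := fun y => S.algebraMap_mem ⟨y ^ p, pow_mem_pPower p y⟩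
  have hinv : ∀ y ∈ S.restrictScalars k, y⁻¹ ∈ S.restrictScalars k := by
    intro y hy
    rcases eq_or_ne y 0 with rfl | h
    · simpa using hy
    have : y⁻¹ = y ^ (p - 1) * y⁻¹ ^ p := by
      conv_rhs => rw [show p = p - 1 + 1 from (Nat.succ_pred_eq_of_pos (Fact.out : p.Prime).pos).symm,
        Nat.add_sub_cancel, pow_succ, ← mul_assoc, inv_pow, mul_inv_cancel₀ (pow_ne_zero _ h), one_mul]
    rw [this]
    exact mul_mem (pow_mem hy _) (hpw _)
  refine Set.Subset.antisymm ?_ ?_
  · have : FF p k s ≤ (S.restrictScalars k).toIntermediateField hinv := by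
      refine IntermediateField.adjoin_le_iff.2 (Set.union_subset ?_ fun y hy => ?_)
      · rintro _ ⟨y, rfl⟩
        exact hpw y
      · exact Algebra.subset_adjoin hy
    exact this
  · intro y hy
    induction hy using Algebra.adjoin_induction with
    | mem y hy => exact subset_FF s hy
    | algebraMap r =>
      obtain ⟨r, hr⟩ := r
      have : pPowerSubalgebra p k K ≤ (FF p k s).toSubalgebra := by
        refine Algebra.adjoin_le ?_
        rintro _ ⟨y, rfl⟩
        exact pow_mem_FF s y
      exact this hr
    | add a b _ _ ha hb => exact add_mem ha hb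
    | mul a b _ _ ha hb => exact mul_mem ha hb

theorem irreducible_X_pow_sub {F : IntermediateField k K} {y : K} (hy : y ∉ F) (hyp : y ^ p ∈ F) :
    minpoly F y = Polynomial.X ^ p - Polynomial.C (⟨y ^ p, hyp⟩ : F) := by
  refine (minpoly.eq_of_irreducible_of_monic
    (X_pow_sub_C_irreducible_of_prime (Fact.out : p.Prime) fun b hb => hy ?_) ?_
    (Polynomial.monic_X_pow_sub_C _ (Fact.out : p.Prime).ne_zero)).symm
  · have hb' : (b : K) ^ p = y ^ p := congr_arg Subtype.val hb
    exact (frobenius_inj K p hb') ▸ b.2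
  · simp

/-- Powers below `p` of an element outside `F` with `p`-th power in `F` are independent. -/
theorem coeff_eq_zero {F : IntermediateField k K} {y : K} (hy : y ∉ F) (hyp : y ^ p ∈ F)
    (g : ℕ → K) (hg : ∀ j, g j ∈ F) (h : ∑ j ∈ Finset.range p, g j * y ^ j = 0) :
    ∀ j < p, g j = 0 := by
  classical
  let q : Polynomial F := ∑ j ∈ Finset.range p, Polynomial.monomial j (⟨g j, hg j⟩ : F)
  have hq : Polynomial.aeval y q = 0 := by
    simpa [q, map_sum, Polynomial.aeval_monomial] using h
  have hdvd := minpoly.dvd F y hq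
  rw [irreducible_X_pow_sub hy hyp] at hdvd
  have hq0 : q = 0 := by
    refine Polynomial.eq_zero_of_dvd_of_degree_lt hdvd ?_
    rw [Polynomial.degree_X_pow_sub_C (Fact.out : p.Prime).pos]
    refine lt_of_le_of_lt (Polynomial.degree_sum_le _ _) ?_
    rw [Finset.sup_lt_iff (by exact WithBot.bot_lt_coe p)]
    intro j hj
    exact lt_of_le_of_lt (Polynomial.degree_monomial_le _ _)
      (WithBot.coe_lt_coe.2 (Finset.mem_range.1 hj))
  intro j hj
  have := congr_arg (fun r => Polynomial.coeff r j) hq0
  simp only [q, Polynomial.finsetSum_coeff, Polynomial.coeff_monomial, Finset.sum_ite_eq',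
    Finset.mem_range.2 hj, if_true, Polynomial.coeff_zero] at this
  exact congr_arg Subtype.val this

variable {ι : Type u} {x : ι → K}

theorem pMonomial_mem_FF {t : Set K} {e : ι →₀ ℕ} (h : ∀ i ∈ e.support, x i ∈ t) :
    pMonomial x e ∈ FF p k t :=
  prod_mem fun i hi => pow_mem (subset_FF t (h i hi)) _

/-- The criterion for p-independence. -/
theorem isPIndependent_iff :
    IsPIndependent p k x ↔ ∀ a, x a ∉ FF p k (x '' {b | b ≠ a}) := by
  classical
  constructor
  · intro h a ha
    let y : {b // b ≠ a} → K := fun b => x b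
    have himg : x '' {b | b ≠ a} = Set.range y := by
      ext z
      simp [y]
    rw [himg, ← SetLike.mem_coe, coe_FF, SetLike.mem_coe, ← Subalgebra.mem_toSubmodule,
      ← span_monos_eq (Fact.out : p.Prime).one_lt y (cP p y) (algebraMap_cP p y)] at ha
    have hsub : Set.range (monos p y) ⊆
        (monos p x) '' {e : Exp p ι | e.1 a = 0} := by
      rintro _ ⟨⟨e, he⟩, rfl⟩
      refine ⟨⟨e.mapDomain Subtype.val, fun i => ?_⟩, ?_, ?_⟩
      · by_cases hi : i ≠ a
        · rw [show i = Subtype.val (⟨i, hi⟩ : {b // b ≠ a}) from rfl,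
            Finsupp.mapDomain_apply Subtype.val_injective]
          exact he _
        · rw [Finsupp.mapDomain_of_notMem_range]
          · exact (Fact.out : p.Prime).pos
          · rintro ⟨⟨j, hj⟩, hji⟩
            exact hi (hji ▸ hj)
      · change e.mapDomain Subtype.val a = 0
        rw [Finsupp.mapDomain_of_notMem_range]
        rintro ⟨⟨j, hj⟩, hja⟩
        exact hj hja
      · exact Finsupp.prod_mapDomain_index_inj Subtype.val_injective
    let ea : Exp p ι := ⟨Finsupp.single a 1, fun i => by
      rw [Finsupp.single_apply]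
      split <;> linarith [(Fact.out : p.Prime).two_le]⟩
    refine (LinearIndependent.notMem_span_image h (x := ea) (s := {e : Exp p ι | e.1 a = 0})
      (by simp [ea])) ?_
    change pMonomial x (Finsupp.single a 1) ∈ _
    rw [pMonomial_single, pow_one]
    exact Submodule.span_mono hsub ha
  · intro h
    have hmain : ∀ (s : Finset ι) (T : Finset (ι →₀ ℕ)) (g : (ι →₀ ℕ) → K),
        (∀ e ∈ T, g e ∈ FF p k (∅ : Set K)) → (∀ e ∈ T, ∀ i, e i < p) →
        (∀ e ∈ T, e.support ⊆ s) → ∑ e ∈ T, g e * pMonomial x e = 0 → ∀ e ∈ T, g e = 0 := by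
      intro s
      induction s using Finset.induction_on with
      | empty =>
        intro T g _ _ hs hsum e he
        have h0 : ∀ e' ∈ T, e' = 0 := fun e' he' =>
          Finsupp.support_eq_empty.1 (Finset.subset_empty.1 (hs e' he'))
        obtain rfl := h0 e he
        rw [show T = {0} from Finset.eq_singleton_iff_unique_mem.2 ⟨he, h0⟩] at hsum
        simpa [pMonomial_zero] using hsum
      | @insert a s ha ih =>
        intro T g hg hlt hs hsum e he
        let gj : ℕ → K := fun j => ∑ e' ∈ T with e' a = j, g e' * pMonomial x (e'.erase a)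
        have hgj : ∀ j, gj j ∈ FF p k (x '' {b | b ≠ a}) := fun j =>
          sum_mem fun e' he' => mul_mem
            (FF_mono (Set.empty_subset _) (hg e' (Finset.mem_filter.1 he').1))
            (pMonomial_mem_FF fun i hi => ⟨i, by
              rw [Finsupp.support_erase, Finset.mem_erase] at hi
              exact hi.1, rfl⟩)
        have hsplit : ∑ j ∈ Finset.range p, gj j * x a ^ j = 0 := by
          rw [← hsum, ← Finset.sum_fiberwise_of_maps_to (g := fun e' : ι →₀ ℕ => e' a)
            (t := Finset.range p) (fun e' he' => Finset.mem_range.2 (hlt e' he' a))]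
          refine Finset.sum_congr rfl fun j _ => ?_
          rw [Finset.sum_mul]
          refine Finset.sum_congr rfl fun e' he' => ?_
          rw [mul_assoc, ← (Finset.mem_filter.1 he').2, ← pMonomial_single, ← pMonomial_add,
            Finsupp.erase_add_single]
        have hz := coeff_eq_zero (h a) (pow_mem_FF _ _) gj hgj hsplit (e a) (hlt e he a)
        let T' := (T.filter fun e' => e' a = e a).image fun e' => e'.erase a
        have hinj : ∀ e' : ι →₀ ℕ, e' a = e a → e'.erase a + Finsupp.single a (e a) = e' :=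
          fun e' he' => by rw [← he', Finsupp.erase_add_single]
        have h0 : (fun e'' => g (e'' + Finsupp.single a (e a))) (e.erase a) = 0 := by
          refine ih T' (fun e'' => g (e'' + Finsupp.single a (e a))) ?_ ?_ ?_ ?_ _
            (Finset.mem_image.2 ⟨e, Finset.mem_filter.2 ⟨he, rfl⟩, rfl⟩)
          · intro e'' he''
            obtain ⟨e', he', rfl⟩ := Finset.mem_image.1 he''
            obtain ⟨he', hea⟩ := Finset.mem_filter.1 he'
            simpa [hinj e' hea] using hg e' he'
          · intro e'' he'' i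
            obtain ⟨e', he', rfl⟩ := Finset.mem_image.1 he''
            rw [Finsupp.erase_apply]
            split
            · exact (Fact.out : p.Prime).pos
            · exact hlt e' (Finset.mem_filter.1 he').1 i
          · intro e'' he''
            obtain ⟨e', he', rfl⟩ := Finset.mem_image.1 he''
            rw [Finsupp.support_erase]
            intro i hi
            obtain ⟨h1, h2⟩ := Finset.mem_erase.1 hi
            exact (Finset.mem_insert.1 (hs e' (Finset.mem_filter.1 he').1 h2)).resolve_left h1
          · rw [Finset.sum_image]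
            · rw [← hz]
              refine Finset.sum_congr rfl fun e' he' => ?_
              rw [hinj e' (Finset.mem_filter.1 he').2]
            · intro e₁ he₁ e₂ he₂ he12
              rw [← hinj e₁ (Finset.mem_filter.1 he₁).2, ← hinj e₂ (Finset.mem_filter.1 he₂).2]
              exact congr_arg (· + _) he12
        simpa [hinj e rfl] using h0
    change LinearIndependent (pPowerSubalgebra p k K) _
    rw [linearIndependent_iff']
    intro T g hsum e he
    have hg : ∀ r : pPowerSubalgebra p k K, (r : K) ∈ FF p k (∅ : Set K) := fun r => by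
      rw [← SetLike.mem_coe, coe_FF]
      exact Subalgebra.algebraMap_mem (Algebra.adjoin (pPowerSubalgebra p k K) ∅) r
    have := hmain (T.biUnion fun e' => e'.1.support) (T.map ⟨Subtype.val, Subtype.val_injective⟩)
      (fun e' => if he' : ∀ i, e' i < p then (g ⟨e', he'⟩ : K) else 0) ?_ ?_ ?_ ?_ e.1
      (Finset.mem_map.2 ⟨e, he, rfl⟩)
    · rw [dif_pos e.2] at this
      exact Subtype.ext this
    · intro e' _
      beta_reduce
      split
      · exact hg _
      · exact zero_mem _
    · intro e' he'
      obtain ⟨e'', -, rfl⟩ := Finset.mem_map.1 he'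
      exact e''.2
    · intro e' he'
      obtain ⟨e'', he'', rfl⟩ := Finset.mem_map.1 he'
      exact Finset.subset_biUnion_of_mem (fun e' : Exp p ι => e'.1.support) he''
    · rw [← hsum, Finset.sum_map]
      refine Finset.sum_congr rfl fun e' _ => ?_
      rw [Subalgebra.smul_def, smul_eq_mul]
      simp [e'.2]

/-- A set is p-independent. -/
theorem isPIndependent_set_iff (B : Set K) :
    IsPIndependent p k (Subtype.val : B → K) ↔ ∀ a ∈ B, a ∉ FF p k (B \ {a}) := by
  rw [isPIndependent_iff]
  have : ∀ a : B, (Subtype.val : B → K) '' {b | b ≠ a} = B \ {(a : K)} := fun a => by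
    ext z
    simp [Subtype.ext_iff, and_comm]
  exact ⟨fun h a ha => this ⟨a, ha⟩ ▸ h ⟨a, ha⟩, fun h a => (this a).symm ▸ h a a.2⟩

/-- The exchange property. -/
theorem insert_indep {B : Set K} (hB : ∀ a ∈ B, a ∉ FF p k (B \ {a})) {y : K}
    (hy : y ∉ FF p k B) : ∀ a ∈ insert y B, a ∉ FF p k (insert y B \ {a}) := by
  have hyB : y ∉ B := fun h => hy (subset_FF B h)
  intro a ha
  rcases ha with rfl | ha
  · rwa [Set.insert_sdiff_self_of_notMem hyB]
  · intro hmem
    have hay : a ≠ y := fun h => hyB (h ▸ ha)
    set F' := FF p k (B \ {a})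
    have hy' : y ∉ F' := fun h => hy (FF_mono Set.sdiff_subset h)
    have hset : insert y B \ {a} = (B \ {a}) ∪ {y} := by
      rw [Set.insert_sdiff_of_notMem _ (by simpa using hay.symm), Set.union_singleton]
    have haG : a ∈ IntermediateField.adjoin F' ({y} : Set K) := by
      have h1 : a ∈ (IntermediateField.adjoin F' ({y} : Set K)).restrictScalars k := by
        rw [restrict_adjoin_FF, ← hset]
        exact hmem
      exact h1
    have hdeg : ∀ z : K, z ∉ F' →
        IsIntegral F' z ∧ Module.finrank F' (IntermediateField.adjoin F' ({z} : Set K)) = p := by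
      intro z hz
      have hzp : z ^ p ∈ F' := pow_mem_FF _ z
      have hint : IsIntegral F' z := ⟨Polynomial.X ^ p - Polynomial.C ⟨z ^ p, hzp⟩,
        Polynomial.monic_X_pow_sub_C _ (Fact.out : p.Prime).ne_zero, by simp⟩
      exact ⟨hint, by
        rw [IntermediateField.adjoin.finrank hint, irreducible_X_pow_sub hz hzp,
          Polynomial.natDegree_X_pow_sub_C]⟩
    obtain ⟨hiy, hdy⟩ := hdeg y hy'
    obtain ⟨-, hda⟩ := hdeg a (hB a ha)
    haveI := IntermediateField.adjoin.finiteDimensional hiy
    have heq : IntermediateField.adjoin F' ({a} : Set K) = IntermediateField.adjoin F' {y} :=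
      IntermediateField.eq_of_le_of_finrank_eq
        (IntermediateField.adjoin_simple_le_iff.2 haG) (hda.trans hdy.symm)
    have hyA : y ∈ (IntermediateField.adjoin F' ({a} : Set K)).restrictScalars k := by
      change y ∈ IntermediateField.adjoin F' ({a} : Set K)
      rw [heq]
      exact IntermediateField.subset_adjoin _ _ rfl
    rw [restrict_adjoin_FF, Set.sdiff_union_self,
      Set.union_eq_left.2 (Set.singleton_subset_iff.2 ha)] at hyA
    exact hy hyA

/-- Extending a p-independent set inside a p-generating one. -/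
theorem exists_maximal (S L : Set K) (hLS : L ⊆ S) (hL : ∀ a ∈ L, a ∉ FF p k (L \ {a})) :
    ∃ B, L ⊆ B ∧ B ⊆ S ∧ (∀ a ∈ B, a ∉ FF p k (B \ {a})) ∧ S ⊆ FF p k B := by
  let P : Set (Set K) := {B | B ⊆ S ∧ ∀ a ∈ B, a ∉ FF p k (B \ {a})}
  obtain ⟨B, hLB, hB, hmax⟩ := zorn_subset_nonempty P (fun c hc hchain hne => by
    refine ⟨⋃₀ c, ⟨Set.sUnion_subset fun t ht => (hc ht).1, fun a ha hmem => ?_⟩,
      fun t ht => Set.subset_sUnion_of_mem ht⟩
    obtain ⟨T, hT, haT⟩ := IntermediateField.exists_finset_of_mem_adjoin hmem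
    obtain ⟨t₀, ht₀, hat₀⟩ := ha
    have hfin : ∃ t ∈ c, a ∈ t ∧ (T : Set K) ⊆ (Set.range fun y : K => y ^ p) ∪ (t \ {a}) := by
      classical
      clear haT
      induction T using Finset.induction_on with
      | empty => exact ⟨t₀, ht₀, hat₀, by simp⟩
      | @insert z T _ ih =>
        rw [Finset.coe_insert, Set.insert_subset_iff] at hT
        obtain ⟨t, ht, hat, hTt⟩ := ih hT.2
        rcases hT.1 with hz | ⟨⟨t', ht', hz⟩, hza⟩
        · exact ⟨t, ht, hat, by
            rw [Finset.coe_insert]; exact Set.insert_subset (Or.inl hz) hTt⟩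
        · rcases hchain.total ht ht' with h | h
          · refine ⟨t', ht', h hat, ?_⟩
            rw [Finset.coe_insert]
            exact Set.insert_subset (Or.inr ⟨hz, hza⟩)
              (hTt.trans (Set.union_subset_union_right _ (Set.sdiff_subset_sdiff_left h)))
          · refine ⟨t, ht, hat, ?_⟩
            rw [Finset.coe_insert]
            exact Set.insert_subset (Or.inr ⟨h hz, hza⟩) hTt
    obtain ⟨t, ht, hat, hTt⟩ := hfin
    exact (hc ht).2 a hat (IntermediateField.adjoin.mono _ _ _ hTt haT)) L ⟨hLS, hL⟩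
  refine ⟨B, hLB, hB.1, hB.2, fun y hyS => ?_⟩
  by_contra hy
  have hins : insert y B ∈ P := ⟨Set.insert_subset hyS hB.1, insert_indep hB.2 hy⟩
  exact hy (subset_FF B (hmax hins (Set.subset_insert y B) (Set.mem_insert y B)))

theorem isPGenerating_iff_FF : IsPGenerating p k x ↔ FF p k (Set.range x) = ⊤ := by
  rw [isPGenerating_iff p (Fact.out : p.Prime).one_lt]
  refine ⟨fun h => ?_, fun h => ?_⟩
  · refine top_le_iff.1 fun z _ => ?_
    rw [← SetLike.mem_coe, coe_FF, h]
    trivial
  · refine top_le_iff.1 fun z _ => ?_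
    have : z ∈ (FF p k (Set.range x) : Set K) := by rw [h]; trivial
    rwa [coe_FF] at this

theorem exists_pBasis (S L : Set K) (hLS : L ⊆ S) (hS : IsPGenerating p k (Subtype.val : S → K))
    (hL : IsPIndependent p k (Subtype.val : L → K)) :
    ∃ B : Set K, L ⊆ B ∧ B ⊆ S ∧ IsPBasis p k (Subtype.val : B → K) := by
  obtain ⟨B, hLB, hBS, hB, hSB⟩ := exists_maximal S L hLS ((isPIndependent_set_iff L).1 hL)
  refine ⟨B, hLB, hBS, (isPIndependent_set_iff B).2 hB, isPGenerating_iff_FF.2 ?_⟩
  rw [Subtype.range_val]
  rw [isPGenerating_iff_FF, Subtype.range_val] at hS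
  exact top_le_iff.1 (hS.ge.trans (FF_le hSB))

theorem isPGenerating_univ : IsPGenerating p k (Subtype.val : ↥(Set.univ : Set K) → K) := by
  rw [isPGenerating_iff_FF, Subtype.range_val]
  exact top_le_iff.1 fun z _ => subset_FF _ (Set.mem_univ z)

theorem eq_of_eqOn_FF {L : Type u} [AddCommGroup L] [Module K L] [Module k L] [IsScalarTower k K L]
    (D : Derivation k K L) {s : Set K} (h : ∀ z ∈ s, D z = 0) {y : K} (hy : y ∈ FF p k s) :
    D y = 0 := by
  rw [← SetLike.mem_coe, coe_FF] at hy
  induction hy using Algebra.adjoin_induction with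
  | mem z hz => exact h z hz
  | algebraMap r => exact derivation_pPower_eq_zero D r.2
  | add a b _ _ ha hb => rw [map_add, ha, hb, add_zero]
  | mul a b _ _ ha hb => rw [Derivation.leibniz, ha, hb, smul_zero, smul_zero, add_zero]

theorem injective_of_isPIndependent (h : IsPIndependent p k x) : Function.Injective x := by
  intro a b hab
  by_contra hne
  exact isPIndependent_iff.1 h a (hab ▸ subset_FF _ ⟨b, fun e => hne e.symm, rfl⟩)

theorem isPIndependent_iff_D :
    IsPIndependent p k x ↔ LinearIndependent K (fun i => KaehlerDifferential.D k K (x i)) := by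
  classical
  constructor
  · intro h
    have hinj := injective_of_isPIndependent h
    have hR : IsPIndependent p k (Subtype.val : Set.range x → K) := by
      rw [isPIndependent_set_iff]
      rintro _ ⟨a, rfl⟩
      refine fun hmem => isPIndependent_iff.1 h a (FF_mono ?_ hmem)
      rintro _ ⟨⟨b, rfl⟩, hb⟩
      exact ⟨b, fun e => hb (by simp [e]), rfl⟩
    obtain ⟨B, hLB, -, hB⟩ := exists_pBasis Set.univ (Set.range x) (Set.subset_univ _)
      isPGenerating_univ hR
    obtain ⟨b, hb⟩ := exists_basis_kaehler hB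
    let f : ι → B := fun i => ⟨x i, hLB ⟨i, rfl⟩⟩
    have hf : Function.Injective f := fun i j hij =>
      hinj (congr_arg (fun z : B => (z : K)) hij)
    have h2 : LinearIndependent K (b ∘ f) := b.linearIndependent.comp f hf
    have heq : (b ∘ f) = fun i => KaehlerDifferential.D k K (x i) := funext fun i => hb (f i)
    exact heq ▸ h2
  · intro h
    rw [isPIndependent_iff]
    intro a ha
    let N := Submodule.span K ((fun i => KaehlerDifferential.D k K (x i)) '' {b | b ≠ a})
    refine h.notMem_span_image (s := {b | b ≠ a}) (x := a) (by simp) ?_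
    have := eq_of_eqOn_FF (N.mkQ.compDer (KaehlerDifferential.D k K)) (fun z hz => by
      obtain ⟨b, hb, rfl⟩ := hz
      exact (Submodule.Quotient.mk_eq_zero N).2 (Submodule.subset_span ⟨b, hb, rfl⟩)) ha
    exact (Submodule.Quotient.mk_eq_zero N).1 this

theorem isPGenerating_iff_D :
    IsPGenerating p k x ↔
      Submodule.span K (Set.range fun i => KaehlerDifferential.D k K (x i)) = ⊤ := by
  classical
  refine ⟨fun h => span_D_eq_top ((isPGenerating_iff p (Fact.out : p.Prime).one_lt x).1 h),
    fun h => ?_⟩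
  obtain ⟨M, -, hMS, hM, hSM⟩ := exists_maximal (p := p) (k := k) (Set.range x) ∅
    (Set.empty_subset _) (fun a ha => ha.elim)
  obtain ⟨B, hMB, -, hB⟩ := exists_pBasis Set.univ M (Set.subset_univ _) isPGenerating_univ
    ((isPIndependent_set_iff M).2 hM)
  have hBM : B ⊆ M := by
    intro y hy
    by_contra hyM
    obtain ⟨D, hD, -⟩ := existsUnique_derivation_rel (L := K) hB
      (fun z => if z = ⟨y, hy⟩ then 1 else 0)
    have hDy : D y = 1 := by simpa using hD ⟨y, hy⟩
    have hDM : ∀ z ∈ M, D z = 0 := fun z hz => by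
      have := hD ⟨z, hMB hz⟩
      rw [if_neg (fun e : (⟨z, hMB hz⟩ : B) = ⟨y, hy⟩ => hyM ((Subtype.mk.inj e) ▸ hz))] at this
      exact this
    have hDx : ∀ i, D (x i) = 0 := fun i => eq_of_eqOn_FF D hDM (hSM ⟨i, rfl⟩)
    have : D.liftKaehlerDifferential = 0 := by
      refine LinearMap.ext_on h ?_
      rintro _ ⟨i, rfl⟩
      simpa using hDx i
    have h0 : D y = 0 := by
      rw [← Derivation.liftKaehlerDifferential_comp_D D y, this]
      rfl
    exact one_ne_zero (hDy.symm.trans h0)
  have := isPGenerating_iff_FF.1 hB.2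
  rw [Subtype.range_val] at this
  rw [isPGenerating_iff_FF]
  exact top_le_iff.1 (this.ge.trans (FF_mono (hBM.trans hMS)))

theorem isPBasis_iff_D :
    IsPBasis p k x ↔
      ∃ b : Module.Basis ι K (Ω[K⁄k]), ∀ i, b i = KaehlerDifferential.D k K (x i) := by
  refine ⟨fun h => exists_basis_kaehler h, fun ⟨b, hb⟩ => ?_⟩
  have hf : (fun i => KaehlerDifferential.D k K (x i)) = b := funext fun i => (hb i).symm
  exact ⟨isPIndependent_iff_D.2 (hf ▸ b.linearIndependent),
    isPGenerating_iff_D.2 (hf ▸ b.span_eq)⟩

end Groth.Agent.Lib.PBasis.Field
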