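import Groth.Prelude.Def_EGA41
import Mathlib.Algebra.MvPolynomial.Basic
import Mathlib.Algebra.MvPolynomial.Eval
import Mathlib.RingTheory.Ideal.Quotient.Operations
import Mathlib.Algebra.CharP.Frobenius
import Mathlib.RingTheory.Adjoin.Basic

/-!
# p-bases: normal forms and the universal property

If the reduced monomials in `x` form a basis of `B` over `R` and `x i ^ p = c i` in `R`, then
`B` is `R[X_i] / (X_i ^ p - c i)`.
-/

universe u v

namespace Groth.Agent.Lib.PBasis.Basic

open EGA41

variable {p : ℕ} {R B : Type u} [CommRing R] [CommRing B] [Algebra R B] {ι : Type u}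

/-- The exponents of reduced monomials. -/
abbrev Exp (p : ℕ) (ι : Type u) : Type u := {e : ι →₀ ℕ // ∀ i, e i < p}

/-- The family of reduced monomials. -/
noncomputable abbrev monos (p : ℕ) (x : ι → B) : Exp p ι → B := fun e => pMonomial x e.1

theorem pMonomial_zero (x : ι → B) : pMonomial x 0 = 1 := Finsupp.prod_zero_index

theorem pMonomial_single (x : ι → B) (i : ι) (n : ℕ) :
    pMonomial x (Finsupp.single i n) = x i ^ n :=
  Finsupp.prod_single_index (pow_zero _)

theorem pMonomial_add (x : ι → B) (e f : ι →₀ ℕ) :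
    pMonomial x (e + f) = pMonomial x e * pMonomial x f :=
  Finsupp.prod_add_index' (fun i => pow_zero _) fun i a b => pow_add _ a b

theorem map_pMonomial {C : Type*} [CommRing C] {F : Type*} [FunLike F B C] [RingHomClass F B C]
    (φ : F) (x : ι → B) (e : ι →₀ ℕ) :
    φ (pMonomial x e) = e.prod fun i n => φ (x i) ^ n := by
  simp [pMonomial, map_finsuppProd, map_pow]

theorem pMonomial_mem_adjoin {A : Type v} [CommRing A] [Algebra A B] (x : ι → B) (e : ι →₀ ℕ) :
    pMonomial x e ∈ Algebra.adjoin A (Set.range x) :=
  Subalgebra.prod_mem _ fun i _ =>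
    Subalgebra.pow_mem _ (Algebra.subset_adjoin (Set.mem_range_self i)) _

/-- The span of the reduced monomials is the subalgebra generated by the family. -/
theorem span_monos_eq (hp : 1 < p) (x : ι → B) (c : ι → R)
    (hc : ∀ i, algebraMap R B (c i) = x i ^ p) :
    Submodule.span R (Set.range (monos p x)) =
      (Algebra.adjoin R (Set.range x)).toSubmodule := by
  classical
  refine le_antisymm (Submodule.span_le.2 ?_) ?_
  · rintro _ ⟨e, rfl⟩
    exact pMonomial_mem_adjoin x e.1
  set S := Submodule.span R (Set.range (monos p x))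
  have hmem : ∀ (e : ι →₀ ℕ), (∀ i, e i < p) → pMonomial x e ∈ S := fun e he =>
    Submodule.subset_span ⟨⟨e, he⟩, rfl⟩
  have hmulX : ∀ (i : ι) (y : B), y ∈ S → y * x i ∈ S := by
    intro i y hy
    refine Submodule.span_induction ?_ ?_ ?_ ?_ hy
    · rintro _ ⟨⟨e, he⟩, rfl⟩
      change pMonomial x e * x i ∈ S
      rw [← pow_one (x i), ← pMonomial_single x i 1, ← pMonomial_add]
      rcases lt_or_ge (e i + 1) p with h | h
      · refine hmem _ fun j => ?_
        rcases eq_or_ne j i with rfl | hj
        · simpa using h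
        · simpa [Finsupp.single_eq_of_ne hj] using he j
      · have hei : e i + 1 = p := le_antisymm (he i) h
        have hsplit : e + Finsupp.single i 1 = e.erase i + Finsupp.single i p := by
          conv_lhs => rw [← Finsupp.erase_add_single i e, add_assoc, ← Finsupp.single_add, hei]
        rw [hsplit, pMonomial_add, pMonomial_single, ← hc i, mul_comm, ← Algebra.smul_def]
        refine Submodule.smul_mem _ _ (hmem _ fun j => ?_)
        rcases eq_or_ne j i with rfl | hj
        · simpa using lt_trans zero_lt_one hp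
        · simpa [Finsupp.erase_ne hj] using he j
    · simp
    · intro a b _ _ ha hb
      rw [add_mul]
      exact add_mem ha hb
    · intro r a _ ha
      rw [smul_mul_assoc]
      exact S.smul_mem r ha
  intro y hy
  rw [Subalgebra.mem_toSubmodule, Algebra.adjoin_range_eq_range_aeval] at hy
  obtain ⟨f, rfl⟩ := hy
  change MvPolynomial.aeval x f ∈ S
  induction f using MvPolynomial.induction_on with
  | C r =>
    rw [MvPolynomial.aeval_C, Algebra.algebraMap_eq_smul_one]
    refine S.smul_mem _ ?_
    rw [← pMonomial_zero x]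
    exact hmem 0 fun i => by simpa using lt_trans zero_lt_one hp
  | add f g hf hg =>
    rw [map_add]
    exact add_mem hf hg
  | mul_X f i hf =>
    rw [map_mul, MvPolynomial.aeval_X]
    exact hmulX i _ hf

/-- The model `R[X_i] / (X_i ^ p - c i)`. -/
abbrev Model (p : ℕ) (c : ι → R) : Type u :=
  MvPolynomial ι R ⧸ Ideal.span (Set.range fun i => MvPolynomial.X i ^ p - MvPolynomial.C (c i))

/-- The generators of the model. -/
noncomputable abbrev modelX (p : ℕ) (c : ι → R) (i : ι) : Model p c :=
  Ideal.Quotient.mk _ (MvPolynomial.X i)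

theorem modelX_pow (p : ℕ) (c : ι → R) (i : ι) :
    algebraMap R (Model p c) (c i) = modelX p c i ^ p := by
  refine Eq.symm ?_
  rw [← map_pow]
  exact (Ideal.Quotient.mk_eq_mk_iff_sub_mem _ _).2 (Ideal.subset_span ⟨i, rfl⟩)

/-- Maps out of the model. -/
noncomputable def modelLift (c : ι → R) {E : Type*} [CommRing E] [Algebra R E] (z : ι → E)
    (hz : ∀ i, algebraMap R E (c i) = z i ^ p) : Model p c →ₐ[R] E :=
  Ideal.Quotient.liftₐ _ (MvPolynomial.aeval z) fun f hf => by
    have : Ideal.span (Set.range fun i => MvPolynomial.X i ^ p - MvPolynomial.C (c i)) ≤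
        RingHom.ker (MvPolynomial.aeval (R := R) z).toRingHom := by
      rw [Ideal.span_le]
      rintro _ ⟨i, rfl⟩
      simp [hz i]
    exact this hf

theorem modelLift_modelX (c : ι → R) {E : Type*} [CommRing E] [Algebra R E] (z : ι → E)
    (hz : ∀ i, algebraMap R E (c i) = z i ^ p) (i : ι) :
    modelLift c z hz (modelX p c i) = z i :=
  MvPolynomial.aeval_X z i

theorem adjoin_modelX (p : ℕ) (c : ι → R) :
    Algebra.adjoin R (Set.range (modelX p c)) = ⊤ := by
  have : Set.range (modelX p c) =
      (Ideal.Quotient.mkₐ R (Ideal.span (Set.range fun i =>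
        (MvPolynomial.X i : MvPolynomial ι R) ^ p - MvPolynomial.C (c i)))) ''
        Set.range MvPolynomial.X := by
    rw [← Set.range_comp]
    rfl
  rw [this, Algebra.adjoin_image, MvPolynomial.adjoin_range_X, Algebra.map_top]
  exact (AlgHom.range_eq_top _).2 Ideal.Quotient.mk_surjective

/-- If the reduced monomials form a basis, `B` is the model. -/
theorem modelLift_bijective (hp : 1 < p) (x : ι → B) (c : ι → R)
    (hc : ∀ i, algebraMap R B (c i) = x i ^ p) (hli : LinearIndependent R (monos p x))
    (hsp : Submodule.span R (Set.range (monos p x)) = ⊤) :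
    Function.Bijective (modelLift (p := p) c x hc) := by
  set π := modelLift (p := p) c x hc
  have hπ : ∀ e : Exp p ι, π (monos p (modelX p c) e) = monos p x e := fun e => by
    change π (pMonomial _ e.1) = _
    rw [map_pMonomial]
    simp only [π, modelLift_modelX]
    rfl
  have hT : Submodule.span R (Set.range (monos p (modelX p c))) = ⊤ := by
    rw [span_monos_eq hp _ c (modelX_pow p c), adjoin_modelX, Algebra.top_toSubmodule]
  refine ⟨?_, ?_⟩
  · rw [injective_iff_map_eq_zero]
    intro t ht
    have hmem : t ∈ Submodule.span R (Set.range (monos p (modelX p c))) := hT ▸ Submodule.mem_top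
    obtain ⟨l, rfl⟩ := Finsupp.mem_span_range_iff_exists_finsupp.1 hmem
    have h0 : Finsupp.linearCombination R (monos p x) l = 0 := by
      rw [Finsupp.linearCombination_apply]
      simp only [map_finsuppSum, map_smul, hπ] at ht
      exact ht
    rw [linearIndependent_iff.1 hli l h0, Finsupp.sum_zero_index]
  · intro b
    have hmem : b ∈ Submodule.span R (Set.range (monos p x)) := hsp ▸ Submodule.mem_top
    obtain ⟨l, rfl⟩ := Finsupp.mem_span_range_iff_exists_finsupp.1 hmem
    exact ⟨l.sum fun e r => r • monos p (modelX p c) e, by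
      simp only [map_finsuppSum, map_smul, hπ]⟩

/-- The universal property of a p-basis. -/
theorem existsUnique_algHom (hp : 1 < p) (x : ι → B) (c : ι → R)
    (hc : ∀ i, algebraMap R B (c i) = x i ^ p) (hli : LinearIndependent R (monos p x))
    (hsp : Submodule.span R (Set.range (monos p x)) = ⊤) {E : Type v} [CommRing E] [Algebra R E]
    (z : ι → E) (hz : ∀ i, algebraMap R E (c i) = z i ^ p) :
    ∃! v : B →ₐ[R] E, ∀ i, v (x i) = z i := by
  let e := AlgEquiv.ofBijective _ (modelLift_bijective hp x c hc hli hsp)
  have he : ∀ i, e (modelX p c i) = x i := modelLift_modelX c x hc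
  refine ⟨(modelLift c z hz).comp e.symm.toAlgHom, fun i => ?_, fun v hv => ?_⟩
  · rw [← he i]
    simp [modelLift_modelX]
  · refine AlgHom.ext fun b => ?_
    obtain ⟨t, rfl⟩ := e.surjective b
    have h : v.comp e.toAlgHom = modelLift c z hz := by
      refine AlgHom.ext_of_adjoin_eq_top (adjoin_modelX p c) ?_
      rintro _ ⟨i, rfl⟩
      simp [he, hv, modelLift_modelX]
    simpa using AlgHom.congr_fun h t

section PPower

variable (p) {A : Type u} [CommRing A] [Algebra A B]

theorem pow_mem_pPower (b : B) : b ^ p ∈ pPowerSubalgebra p A B :=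
  Algebra.subset_adjoin ⟨b, rfl⟩

/-- `x i ^ p` as an element of `A[B^p]`. -/
def cP (x : ι → B) (i : ι) : pPowerSubalgebra p A B := ⟨x i ^ p, pow_mem_pPower p _⟩

theorem algebraMap_cP (x : ι → B) (i : ι) :
    algebraMap (pPowerSubalgebra p A B) B (cP p x i) = x i ^ p := rfl

theorem pPower_eq_range (hpow : ∀ b : B, b ^ p ∈ Set.range (algebraMap A B)) :
    pPowerSubalgebra p A B = (⊥ : Subalgebra A B) := by
  refine le_antisymm (Algebra.adjoin_le ?_) bot_le
  rintro _ ⟨b, rfl⟩
  exact Algebra.mem_bot.2 (hpow b)

theorem isPGenerating_iff (hp : 1 < p) (x : ι → B) :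
    IsPGenerating p A x ↔
      Algebra.adjoin (pPowerSubalgebra p A B) (Set.range x) = ⊤ := by
  have h := span_monos_eq hp x (cP p x) (algebraMap_cP (A := A) p x)
  unfold IsPGenerating
  refine ⟨fun hg => Algebra.toSubmodule_eq_top.1 (h.symm.trans hg), fun ha => ?_⟩
  exact h.trans (Algebra.toSubmodule_eq_top.2 ha)

/-- With `A → B` injective and `B^p ⊆ A`, the monomials of a p-basis are a basis over `A`. -/
theorem monos_basis_of_pBasis (hinj : Function.Injective (algebraMap A B))
    (hpow : ∀ b : B, b ^ p ∈ Set.range (algebraMap A B)) {x : ι → B} (hx : IsPBasis p A x) :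
    LinearIndependent A (monos p x) ∧ Submodule.span A (Set.range (monos p x)) = ⊤ := by
  have hsurj : Function.Surjective (algebraMap A (pPowerSubalgebra p A B)) := by
    rintro ⟨b, hb⟩
    rw [pPower_eq_range p hpow] at hb
    obtain ⟨a, ha⟩ := Algebra.mem_bot.1 hb
    exact ⟨a, Subtype.ext ha⟩
  refine ⟨hx.1.restrict_scalars ?_, ?_⟩
  · intro a b hab
    refine hinj ?_
    have := congr_arg Subtype.val hab
    simpa [Algebra.smul_def] using this
  · rw [← Submodule.restrictScalars_span A (pPowerSubalgebra p A B) hsurj,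
      show Submodule.span (pPowerSubalgebra p A B) (Set.range (monos p x)) = ⊤ from hx.2,
      Submodule.restrictScalars_top]

end PPower

end Groth.Agent.Lib.PBasis.Basic
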