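import Groth.Agent.Lib.PBasis.Cartier
import Mathlib.RingTheory.Ideal.Cotangent
import Mathlib.RingTheory.LocalRing.ResidueField.Basic
import Mathlib.LinearAlgebra.TensorProduct.Quotient

/-!
# The conormal sequence of the residue field of a local ring

For a local ring `R` with residue field `K` of characteristic `p` with `p ∈ 𝔪²`, the map
`𝔪/𝔪² → K ⊗ Ω_R` identifies `𝔪/𝔪²` with the kernel of `K ⊗ Ω_R → Ω_K`.
-/

universe u

namespace Groth.Agent.Lib.PBasis.Conormal

open IsLocalRing TensorProduct Groth.Agent.Lib.PBasis.Cartier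

variable (R : Type u) [CommRing R] [IsLocalRing R]

/-- `K ⊗ Ω_R → Ω_K`. -/
noncomputable abbrev resMap : ResidueField R ⊗[R] Ω[R⁄ℤ] →ₗ[ResidueField R] Ω[ResidueField R⁄ℤ] :=
  KaehlerDifferential.mapBaseChange ℤ R (ResidueField R)

/-- A section of `R / 𝔪² → K`. -/
theorem exists_section (p : ℕ) [Fact p.Prime] [CharP (ResidueField R) p]
    (hp : (p : R) ∈ maximalIdeal R ^ 2) :
    ∃ s : ResidueField R →+* R ⧸ maximalIdeal R ^ 2,
      ∀ x, Ideal.Quotient.factor (Ideal.pow_le_self two_ne_zero) (s x) = x := by
  let Q := R ⧸ maximalIdeal R ^ 2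
  let K := ResidueField R
  let g : Q →+* K := Ideal.Quotient.factor (Ideal.pow_le_self two_ne_zero)
  haveI : Nontrivial Q := g.domain_nontrivial
  haveI : CharP Q p := (CharP.charP_iff_prime_eq_zero Fact.out).2 (by
    rw [← map_natCast (Ideal.Quotient.mk (maximalIdeal R ^ 2))]
    exact Ideal.Quotient.eq_zero_iff_mem.2 hp)
  let P := ULift.{u} (ZMod p)
  letI : Algebra P Q :=
    ((ZMod.castHom (dvd_refl p) Q).comp (ULift.ringEquiv : P ≃+* ZMod p).toRingHom).toAlgebra
  letI : Algebra P K := (g.comp (algebraMap P Q)).toAlgebra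
  haveI : CharP P p := charP_of_injective_ringHom
    (f := (ULift.ringEquiv : P ≃+* ZMod p).symm.toRingHom) (RingEquiv.injective _) p
  haveI : Finite P := Finite.of_equiv (ZMod p) Equiv.ulift.symm
  haveI : PerfectRing P p := PerfectRing.ofFiniteOfIsReduced p P
  haveI := Separable.formallySmooth_of_perfect_charP K p P
  let gA : Q →ₐ[P] K := { g with commutes' := fun _ => rfl }
  have hg : Function.Surjective gA :=
    Ideal.Quotient.factor_surjective (Ideal.pow_le_self two_ne_zero)
  have hnil : IsNilpotent (RingHom.ker (gA : Q →+* K)) := by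
    refine ⟨2, ?_⟩
    rw [show RingHom.ker (gA : Q →+* K) = (maximalIdeal R).map (Ideal.Quotient.mk _) from
      Ideal.Quotient.factor_ker (Ideal.pow_le_self two_ne_zero), ← Ideal.map_pow,
      Ideal.map_quotient_self]
    rfl
  exact ⟨(Algebra.FormallySmooth.liftOfSurjective (AlgHom.id P K) gA hg hnil).toRingHom, fun x =>
    AlgHom.congr_fun (Algebra.FormallySmooth.comp_liftOfSurjective (AlgHom.id P K) gA hg hnil) x⟩

/-- `x ↦ 1 ⊗ dx` on the maximal ideal. -/
noncomputable def nu : maximalIdeal R →ₗ[R] ResidueField R ⊗[R] Ω[R⁄ℤ] where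
  toFun x := (1 : ResidueField R) ⊗ₜ[R] KaehlerDifferential.D ℤ R (x : R)
  map_add' x y := by simp [TensorProduct.tmul_add]
  map_smul' r x := by
    have hx : algebraMap R (ResidueField R) (x : R) = 0 := (residue_eq_zero_iff _).2 x.2
    simp only [SetLike.val_smul, smul_eq_mul, Derivation.leibniz, TensorProduct.tmul_add,
      RingHom.id_apply, TensorProduct.tmul_smul]
    rw [← algebraMap_smul (ResidueField R) (x : R)
      ((1 : ResidueField R) ⊗ₜ[R] KaehlerDifferential.D ℤ R r), hx, zero_smul, add_zero]

theorem nu_apply (x : maximalIdeal R) :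
    nu R x = (1 : ResidueField R) ⊗ₜ[R] KaehlerDifferential.D ℤ R (x : R) := rfl

theorem mem_sq_of_nu_eq_zero (p : ℕ) [Fact p.Prime] [CharP (ResidueField R) p]
    (hp : (p : R) ∈ maximalIdeal R ^ 2) (x : maximalIdeal R) (hx : nu R x = 0) :
    (x : R) ∈ maximalIdeal R ^ 2 := by
  obtain ⟨s, hs⟩ := exists_section R p hp
  let Q := R ⧸ maximalIdeal R ^ 2
  let g : Q →+* ResidueField R := Ideal.Quotient.factor (Ideal.pow_le_self two_ne_zero)
  let m := Ideal.Quotient.mk (maximalIdeal R ^ 2)
  have hgm : ∀ a, g (m a) = residue R a := fun a => rfl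
  have hgs : ∀ y, g (s y) = y := hs
  have hsq : ∀ a b : R, (m a - s (residue R a)) * (m b - s (residue R b)) = 0 := by
    intro a b
    obtain ⟨a', ha'⟩ := Ideal.Quotient.mk_surjective (m a - s (residue R a))
    obtain ⟨b', hb'⟩ := Ideal.Quotient.mk_surjective (m b - s (residue R b))
    have ha : g (m a - s (residue R a)) = 0 := by rw [map_sub, hgs, hgm, sub_self]
    have hb : g (m b - s (residue R b)) = 0 := by rw [map_sub, hgs, hgm, sub_self]
    rw [← ha'] at ha ⊢
    rw [← hb'] at hb ⊢
    rw [← map_mul]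
    refine Ideal.Quotient.eq_zero_iff_mem.2 ?_
    rw [pow_two]
    exact Ideal.mul_mem_mul ((residue_eq_zero_iff _).1 ha) ((residue_eq_zero_iff _).1 hb)
  let δ : Derivation ℤ R Q := Derivation.mk'
    (AddMonoidHom.toIntLinearMap
      { toFun := fun a => m a - s (residue R a)
        map_zero' := by simp
        map_add' := fun a b => by simp only [map_add]; abel })
    (fun a b => by
      change m (a * b) - s (residue R (a * b)) =
        a • (m b - s (residue R b)) + b • (m a - s (residue R a))
      rw [Algebra.smul_def, Algebra.smul_def, map_mul, map_mul, map_mul]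
      have := hsq a b
      change _ = m a * _ + m b * _
      linear_combination -this)
  let Λ := δ.liftKaehlerDifferential
  have hrange : ∀ ω : Ω[R⁄ℤ], g (Λ ω) = 0 := by
    intro ω
    have hω : ω ∈ Submodule.span R (Set.range (KaehlerDifferential.D ℤ R)) := by
      rw [KaehlerDifferential.span_range_derivation]; trivial
    induction hω using Submodule.span_induction with
    | mem z hz =>
      obtain ⟨a, rfl⟩ := hz
      rw [Derivation.liftKaehlerDifferential_comp_D]
      change g (m a - s (residue R a)) = 0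
      rw [map_sub, hgs, hgm, sub_self]
    | zero => simp
    | add a b _ _ ha hb => simp [ha, hb]
    | smul r a _ ha =>
      rw [map_smul, Algebra.smul_def, map_mul, ha, mul_zero]
  have hzero : KaehlerDifferential.D ℤ R (x : R) ∈
      maximalIdeal R • (⊤ : Submodule R Ω[R⁄ℤ]) := by
    have h0 : ((1 : R ⧸ maximalIdeal R) ⊗ₜ[R] KaehlerDifferential.D ℤ R (x : R)) = 0 := hx
    have h1 := congr_arg (TensorProduct.quotTensorEquivQuotSMul (Ω[R⁄ℤ]) (maximalIdeal R)) h0
    rw [show (1 : R ⧸ maximalIdeal R) = Ideal.Quotient.mk (maximalIdeal R) 1 from rfl,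
      TensorProduct.quotTensorEquivQuotSMul_mk_tmul, one_smul, map_zero,
      Submodule.Quotient.mk_eq_zero] at h1
    exact h1
  have hΛ : ∀ ω ∈ maximalIdeal R • (⊤ : Submodule R Ω[R⁄ℤ]), Λ ω = 0 := by
    intro ω hω
    refine Submodule.smul_induction_on hω (fun a ha n _ => ?_)
      fun a b ha hb => by rw [map_add, ha, hb, add_zero]
    obtain ⟨b, hb⟩ := Ideal.Quotient.mk_surjective (Λ n)
    have hb0 := hrange n
    rw [← hb] at hb0
    rw [map_smul, ← hb, Algebra.smul_def]
    change m a * m b = 0
    rw [← map_mul]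
    refine Ideal.Quotient.eq_zero_iff_mem.2 ?_
    rw [pow_two]
    exact Ideal.mul_mem_mul ha ((residue_eq_zero_iff _).1 hb0)
  have h0 := hΛ _ hzero
  rw [Derivation.liftKaehlerDifferential_comp_D] at h0
  change m (x : R) - s (residue R (x : R)) = 0 at h0
  rw [(residue_eq_zero_iff _).2 x.2, map_zero, sub_zero] at h0
  exact Ideal.Quotient.eq_zero_iff_mem.1 h0

theorem range_nu : LinearMap.range (nu R) = (LinearMap.ker (resMap R)).restrictScalars R := by
  have hsurj : Function.Surjective (algebraMap R (ResidueField R)) := residue_surjective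
  have hex := KaehlerDifferential.exact_kerCotangentToTensor_mapBaseChange ℤ R (ResidueField R) hsurj
  apply SetLike.ext
  intro z
  constructor
  · rintro ⟨x, rfl⟩
    change resMap R _ = 0
    simp [nu_apply, resMap, (residue_eq_zero_iff (x : R)).2 x.2]
  · intro hz
    obtain ⟨y, rfl⟩ := (hex z).1 hz
    obtain ⟨x, rfl⟩ := Ideal.toCotangent_surjective _ y
    exact ⟨⟨x.1, (residue_eq_zero_iff _).1 x.2⟩,
      (KaehlerDifferential.kerCotangentToTensor_toCotangent ℤ R (ResidueField R) x).symm⟩

/-- The residue map has index `dim 𝔪/𝔪²`. -/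
theorem good_resMap [IsNoetherianRing R] (p : ℕ) [Fact p.Prime] [CharP (ResidueField R) p]
    (hp : (p : R) ∈ maximalIdeal R ^ 2) :
    Good (resMap R) (Module.finrank (ResidueField R) (CotangentSpace R) : ℤ) := by
  have hsurj : Function.Surjective (algebraMap R (ResidueField R)) := residue_surjective
  have hle : maximalIdeal R • (⊤ : Submodule R (maximalIdeal R)) ≤ LinearMap.ker (nu R) := by
    refine Submodule.smul_le.2 fun a ha z _ => ?_
    rw [LinearMap.mem_ker, map_smul, ← algebraMap_smul (ResidueField R) a (nu R z),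
      show algebraMap R (ResidueField R) a = 0 from (residue_eq_zero_iff _).2 ha, zero_smul]
  let N : CotangentSpace R →ₗ[R] ResidueField R ⊗[R] Ω[R⁄ℤ] := Submodule.liftQ _ (nu R) hle
  have hN : Function.Injective N := by
    rw [injective_iff_map_eq_zero]
    intro z hz
    obtain ⟨x, rfl⟩ := Submodule.mkQ_surjective _ z
    exact (Ideal.toCotangent_eq_zero _ _).2 (mem_sq_of_nu_eq_zero R p hp x hz)
  have hrg : LinearMap.range N = (LinearMap.ker (resMap R)).restrictScalars R := by
    rw [← range_nu]
    exact Submodule.range_liftQ _ _ _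
  let e : CotangentSpace R ≃ₗ[R] LinearMap.ker (resMap R) :=
    ((LinearEquiv.ofInjective N hN).trans (LinearEquiv.ofEq _ _ hrg)).trans
      { toFun := fun z => ⟨z.1, z.2⟩
        invFun := fun z => ⟨z.1, z.2⟩
        map_add' := fun _ _ => rfl
        map_smul' := fun _ _ => rfl }
  let e' : CotangentSpace R ≃ₗ[ResidueField R] LinearMap.ker (resMap R) :=
    { e with
      map_smul' := fun c z => by
        obtain ⟨r, rfl⟩ := hsurj c
        simp only [RingHom.id_apply, algebraMap_smul]
        exact e.map_smul r z }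
  haveI : Subsingleton (Ω[ResidueField R⁄ℤ] ⧸ LinearMap.range (resMap R)) :=
    Submodule.Quotient.subsingleton_iff.2
      (LinearMap.range_eq_top.2 (KaehlerDifferential.mapBaseChange_surjective ℤ R _ hsurj))
  refine ⟨Module.Finite.equiv e', inferInstance, ?_⟩
  rw [LinearMap.index_of_surjective (KaehlerDifferential.mapBaseChange_surjective ℤ R _ hsurj),
    e'.finrank_eq]

omit [IsLocalRing R] in
/-- Composition with a field extension. -/
theorem good_comp {K L : Type u} [Field K] [Field L] [Algebra R K] [Algebra K L] [Algebra R L]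
    [IsScalarTower R K L] {m n : ℤ} (h₁ : Good (KaehlerDifferential.mapBaseChange ℤ R K) n)
    (h₂ : HasIndex K L m) : Good (KaehlerDifferential.mapBaseChange ℤ R L) (m + n) := by
  let e := TensorProduct.AlgebraTensorModule.cancelBaseChange R K L L (Ω[R⁄ℤ])
  have heq : KaehlerDifferential.mapBaseChange ℤ R L =
      (KaehlerDifferential.mapBaseChange ℤ K L ∘ₗ
        (KaehlerDifferential.mapBaseChange ℤ R K).baseChange L) ∘ₗ e.symm.toLinearMap := by
    refine TensorProduct.AlgebraTensorModule.ext fun x ω => ?_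
    simp only [e, LinearMap.comp_apply, LinearEquiv.coe_coe,
      TensorProduct.AlgebraTensorModule.cancelBaseChange_symm_tmul, LinearMap.baseChange_tmul,
      KaehlerDifferential.mapBaseChange_tmul, one_smul]
    congr 1
    have h2 : (KaehlerDifferential.map ℤ ℤ K L).restrictScalars R ∘ₗ
          (KaehlerDifferential.map ℤ ℤ R K) = KaehlerDifferential.map ℤ ℤ R L := by
      refine Derivation.liftKaehlerDifferential_unique _ _ (Derivation.ext fun b => ?_)
      simp [← IsScalarTower.algebraMap_apply]
    exact (LinearMap.congr_fun h2 ω).symm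
  have h := (h₂.comp h₁.baseChange).comp (Good.of_bijective e.symm.bijective)
  rw [← heq, add_zero] at h
  exact h

end Groth.Agent.Lib.PBasis.Conormal
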