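import Groth.Agent.Lib.PBasis.LocalQuot
import Groth.Agent.Lib.Dim.Integral
import Groth.Agent.Lib.Regular.Serre
import Mathlib.Algebra.TrivSqZeroExt.Basic
import Mathlib.LinearAlgebra.Dimension.OrzechProperty
import Mathlib.RingTheory.Polynomial.Basic
import Mathlib.RingTheory.Ideal.Cotangent
import Mathlib.RingTheory.RegularLocalRing.Defs

/-!
# Eisenstein-type equations over a local ring
-/

universe u v

namespace Groth.Agent.Lib.PBasis.Eisenstein

open IsLocalRing

/-- The one-variable equation. -/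
noncomputable def poly {A : Type u} [CommRing A] (d : ℕ) (c : ℕ → A) : Polynomial A :=
  Polynomial.X ^ d + (Finset.range d).sum fun k => Polynomial.C (c k) * Polynomial.X ^ k

theorem aeval_poly {A : Type u} [CommRing A] {ι : Type v} (d : ℕ) (c : ℕ → A) (i : ι) :
    Polynomial.aeval (MvPolynomial.X i : MvPolynomial ι A) (poly d c) =
      MvPolynomial.X i ^ d +
        (Finset.range d).sum fun k => MvPolynomial.C (c k) * MvPolynomial.X i ^ k := by
  simp [poly, map_sum, MvPolynomial.algebraMap_eq]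

theorem poly_monic {A : Type u} [CommRing A] [Nontrivial A] {d : ℕ} (hd : d ≠ 0) (c : ℕ → A) :
    (poly d c).Monic ∧ (poly d c).natDegree ≠ 0 := by
  have hmem : ((Finset.range d).sum fun k => Polynomial.C (c k) * Polynomial.X ^ k) ∈
      Polynomial.degreeLT A d := by
    refine sum_mem fun k hk => ?_
    rw [Polynomial.mem_degreeLT]
    exact (Polynomial.degree_C_mul_X_pow_le _ _).trans_lt (by exact_mod_cast Finset.mem_range.1 hk)
  rw [Polynomial.mem_degreeLT] at hmem
  have hm : (poly d c).Monic := Polynomial.monic_X_pow_add hmem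
  refine ⟨hm, fun h0 => hd ?_⟩
  have h1 : (poly d c).degree = (d : WithBot ℕ) := by
    rw [poly, Polynomial.degree_add_eq_left_of_degree_lt] <;> rw [Polynomial.degree_X_pow]
    exact hmem
  rw [Polynomial.degree_eq_natDegree hm.ne_zero, h0] at h1
  exact_mod_cast h1.symm

section

variable {A : Type u} [CommRing A] [IsLocalRing A] {ι : Type v} [Finite ι] (d : ι → ℕ)
  (c : ι → ℕ → A)

/-- The defining ideal. -/
noncomputable abbrev eqId : Ideal (MvPolynomial ι A) :=
  LocalQuot.eqIdeal fun i => poly (d i) (c i)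

/-- `m_A ^ 2 + (c_{i0})`. -/
abbrev J0 : Ideal A := maximalIdeal A ^ 2 ⊔ Ideal.span (Set.range fun i => c i 0)

variable {d c}

omit [Finite ι] in
theorem J0_le (hc : ∀ i k, c i k ∈ maximalIdeal A) : J0 c ≤ maximalIdeal A :=
  sup_le (Ideal.pow_le_self two_ne_zero) (Ideal.span_le.2 (by rintro _ ⟨i, rfl⟩; exact hc i 0))

omit [Finite ι] in
theorem mk_relation (i : ι) :
    Ideal.Quotient.mk (eqId d c) (MvPolynomial.X i) ^ d i +
      (Finset.range (d i)).sum (fun k => algebraMap A (MvPolynomial ι A ⧸ eqId d c) (c i k) *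
        Ideal.Quotient.mk (eqId d c) (MvPolynomial.X i) ^ k) = 0 := by
  have h : Ideal.Quotient.mk (eqId d c) (Polynomial.aeval (MvPolynomial.X i) (poly (d i) (c i))) = 0 :=
    Ideal.Quotient.eq_zero_iff_mem.2 (Ideal.subset_span ⟨i, rfl⟩)
  rw [aeval_poly, map_add, map_pow, map_sum] at h
  simp only [map_mul, map_pow] at h
  exact h

variable (hd : ∀ i, 2 ≤ d i) (hc : ∀ i k, c i k ∈ maximalIdeal A)
include hd hc

theorem basic : Module.Finite A (MvPolynomial ι A ⧸ eqId d c) ∧
    Function.Injective (algebraMap A (MvPolynomial ι A ⧸ eqId d c)) ∧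
    Nontrivial (MvPolynomial ι A ⧸ eqId d c) := by
  have hm := fun i => poly_monic (show d i ≠ 0 by have := hd i; omega) (c i)
  have hinj := LocalQuot.injective_algebraMap_quotient _ (fun i => (hm i).1) (fun i => (hm i).2)
  haveI := LocalQuot.isIntegral_quotient _ fun i => (hm i).1
  haveI : Algebra.FiniteType A (MvPolynomial ι A ⧸ eqId d c) :=
    Algebra.FiniteType.of_surjective (Ideal.Quotient.mkₐ A _) (Ideal.Quotient.mkₐ_surjective A _)
  exact ⟨Algebra.IsIntegral.finite, hinj, hinj.nontrivial⟩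

theorem facts :
    ∃ _ : IsLocalRing (MvPolynomial ι A ⧸ eqId d c),
      IsLocalHom (algebraMap A (MvPolynomial ι A ⧸ eqId d c)) ∧
      maximalIdeal (MvPolynomial ι A ⧸ eqId d c) =
        (maximalIdeal A).map (algebraMap A (MvPolynomial ι A ⧸ eqId d c)) ⊔
          Ideal.span (Set.range fun i => Ideal.Quotient.mk (eqId d c) (MvPolynomial.X i)) ∧
      ∀ b, ∃ a, b - algebraMap A (MvPolynomial ι A ⧸ eqId d c) a ∈
        maximalIdeal (MvPolynomial ι A ⧸ eqId d c) := by
  obtain ⟨hfin, hinj, hnt⟩ := basic hd hc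
  let B := MvPolynomial ι A ⧸ eqId d c
  let T : Ideal B := (maximalIdeal A).map (algebraMap A B) ⊔
    Ideal.span (Set.range fun i => Ideal.Quotient.mk (eqId d c) (MvPolynomial.X i))
  have hmap : ∀ M : Ideal B, M.IsMaximal → (maximalIdeal A).map (algebraMap A B) ≤ M :=
    fun M hM => Ideal.map_le_iff_le_comap.2
      (eq_maximalIdeal (Ideal.isMaximal_comap_of_isIntegral_of_isMaximal M)).ge
  have hT : ∀ M : Ideal B, M.IsMaximal → T ≤ M := by
    intro M hM
    refine sup_le (hmap M hM) (Ideal.span_le.2 ?_)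
    rintro _ ⟨i, rfl⟩
    refine hM.isPrime.mem_of_pow_mem (d i) ?_
    rw [eq_neg_of_add_eq_zero_left (mk_relation (d := d) (c := c) i)]
    exact neg_mem (sum_mem fun k _ => Ideal.mul_mem_right _ _
      (hmap M hM (Ideal.mem_map_of_mem _ (hc i k))))
  have hsub : ∀ b : B, ∃ a, b - algebraMap A B a ∈ T := by
    intro b
    obtain ⟨q, rfl⟩ := Ideal.Quotient.mk_surjective b
    induction q using MvPolynomial.induction_on with
    | C a => exact ⟨a, by rw [show Ideal.Quotient.mk (eqId d c) (MvPolynomial.C a) =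
        algebraMap A B a from rfl, sub_self]; exact T.zero_mem⟩
    | add x y hx hy =>
      obtain ⟨a, ha⟩ := hx
      obtain ⟨a', ha'⟩ := hy
      exact ⟨a + a', by convert T.add_mem ha ha' using 1; simp only [map_add]; ring⟩
    | mul_X x i _ =>
      exact ⟨0, by
        rw [map_mul, map_zero, sub_zero]
        exact T.mul_mem_left _ (Ideal.mem_sup_right (Ideal.subset_span ⟨i, rfl⟩))⟩
  obtain ⟨hloc, hlh, -⟩ := LocalQuot.isLocalRing_of_forall (A := A) (B := B) fun b => by
    obtain ⟨a, ha⟩ := hsub b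
    exact ⟨1, one_ne_zero, a, fun M hM => by rw [pow_one]; exact hT M hM ha⟩
  refine ⟨hloc, hlh, le_antisymm (fun b hb => ?_) (hT _ (maximalIdeal.isMaximal _)), fun b => ?_⟩
  · obtain ⟨a, ha⟩ := hsub b
    have h1 : algebraMap A B a ∈ maximalIdeal B := by
      have := sub_mem hb (hT _ (maximalIdeal.isMaximal _) ha)
      rwa [sub_sub_cancel] at this
    have h2 : a ∈ maximalIdeal A :=
      (mem_maximalIdeal _).2 fun hu => (mem_maximalIdeal _).1 h1 (hu.map _)
    have h3 : b = (b - algebraMap A B a) + algebraMap A B a := by ring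
    rw [h3]
    exact T.add_mem ha (Ideal.mem_sup_left (Ideal.mem_map_of_mem _ h2))
  · obtain ⟨a, ha⟩ := hsub b
    exact ⟨a, hT _ (maximalIdeal.isMaximal _) ha⟩

omit [Finite ι] in
theorem const_mem_sq [IsLocalRing (MvPolynomial ι A ⧸ eqId d c)]
    (hmax : (maximalIdeal A).map (algebraMap A (MvPolynomial ι A ⧸ eqId d c)) ⊔
          Ideal.span (Set.range fun i => Ideal.Quotient.mk (eqId d c) (MvPolynomial.X i)) ≤
        maximalIdeal (MvPolynomial ι A ⧸ eqId d c)) (i : ι) :
    algebraMap A (MvPolynomial ι A ⧸ eqId d c) (c i 0) ∈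
      maximalIdeal (MvPolynomial ι A ⧸ eqId d c) ^ 2 := by
  have hx : Ideal.Quotient.mk (eqId d c) (MvPolynomial.X i) ∈
      maximalIdeal (MvPolynomial ι A ⧸ eqId d c) :=
    hmax (Ideal.mem_sup_right (Ideal.subset_span ⟨i, rfl⟩))
  have hrel := mk_relation (d := d) (c := c) i
  rw [Finset.sum_eq_add_sum_sdiff_singleton_of_mem (Finset.mem_range.2 (show 0 < d i by have := hd i; omega)),
    pow_zero, mul_one] at hrel
  rw [show algebraMap A (MvPolynomial ι A ⧸ eqId d c) (c i 0) =
      -(Ideal.Quotient.mk (eqId d c) (MvPolynomial.X i) ^ d i +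
        ∑ k ∈ Finset.range (d i) \ {0}, algebraMap A (MvPolynomial ι A ⧸ eqId d c) (c i k) *
          Ideal.Quotient.mk (eqId d c) (MvPolynomial.X i) ^ k) by linear_combination hrel]
  refine neg_mem (add_mem (Ideal.pow_le_pow_right (hd i) (Ideal.pow_mem_pow hx _)) ?_)
  refine sum_mem fun k hk => ?_
  simp only [Finset.mem_sdiff, Finset.mem_singleton] at hk
  rw [pow_two]
  refine Ideal.mul_mem_mul (hmax (Ideal.mem_sup_left (Ideal.mem_map_of_mem _ (hc i k)))) ?_
  exact Ideal.pow_mem_of_mem _ hx k (Nat.pos_of_ne_zero hk.2)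

/-- The first order neighbourhood. -/
theorem exists_psi [DecidableEq ι] :
    ∃ ψ : MvPolynomial ι A ⧸ eqId d c → (A ⧸ J0 c) × (ι → ResidueField A),
      (∀ a, ψ (algebraMap A _ a) = (Ideal.Quotient.mk _ a, 0)) ∧
      (∀ i, ψ (Ideal.Quotient.mk _ (MvPolynomial.X i)) = (0, Pi.single i 1)) ∧
      (∀ x y, ψ (x + y) = ψ x + ψ y) ∧
      ∀ x y (β γ : A), (ψ x).1 = Ideal.Quotient.mk _ β → (ψ y).1 = Ideal.Quotient.mk _ γ →
        ψ (x * y) = (Ideal.Quotient.mk _ (β * γ),
          residue A β • (ψ y).2 + residue A γ • (ψ x).2) := by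
  letI : Algebra (A ⧸ J0 c) (ResidueField A) :=
    (Ideal.Quotient.factor (J0_le hc) : A ⧸ J0 c →+* A ⧸ maximalIdeal A).toAlgebra
  letI : Module (A ⧸ J0 c)ᵐᵒᵖ (ι → ResidueField A) :=
    Module.compHom _ (RingEquiv.toOpposite (A ⧸ J0 c)).symm.toRingHom
  haveI : IsCentralScalar (A ⧸ J0 c) (ι → ResidueField A) := ⟨fun _ _ => rfl⟩
  have hsmul : ∀ (a : A) (z : ι → ResidueField A),
      (Ideal.Quotient.mk (J0 c) a) • z = residue A a • z := fun a z => by
    ext j
    rfl
  let φ : MvPolynomial ι A →+* TrivSqZeroExt (A ⧸ J0 c) (ι → ResidueField A) :=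
    MvPolynomial.eval₂Hom ((TrivSqZeroExt.inlHom _ _).comp (Ideal.Quotient.mk (J0 c)))
      fun i => TrivSqZeroExt.inr (Pi.single i 1)
  have hφX : ∀ i, φ (MvPolynomial.X i) = TrivSqZeroExt.inr (Pi.single i 1) := fun i => by simp [φ]
  have hφC : ∀ a, φ (MvPolynomial.C a) = TrivSqZeroExt.inl (Ideal.Quotient.mk (J0 c) a) :=
    fun a => by simp [φ]
  have hsq : ∀ (z : ι → ResidueField A) (n : ℕ), 2 ≤ n →
      (TrivSqZeroExt.inr z : TrivSqZeroExt (A ⧸ J0 c) (ι → ResidueField A)) ^ n = 0 := by
    intro z n hn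
    obtain ⟨m, rfl⟩ := Nat.exists_eq_add_of_le hn
    rw [pow_add, pow_two, TrivSqZeroExt.inr_mul_inr, zero_mul]
  have hker : eqId d c ≤ RingHom.ker φ := by
    refine Ideal.span_le.2 ?_
    rintro _ ⟨i, rfl⟩
    change φ (Polynomial.aeval (MvPolynomial.X i) (poly (d i) (c i))) = 0
    rw [aeval_poly, map_add, map_pow, map_sum, hφX, hsq _ _ (hd i), zero_add]
    refine Finset.sum_eq_zero fun k _ => ?_
    rw [map_mul, map_pow, hφX, hφC]
    rcases k with _ | _ | k
    · have h0 : c i 0 ∈ J0 c := Ideal.mem_sup_right (Ideal.subset_span ⟨i, rfl⟩)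
      rw [pow_zero, mul_one, Ideal.Quotient.eq_zero_iff_mem.2 h0, TrivSqZeroExt.inl_zero]
    · rw [pow_one, TrivSqZeroExt.inl_mul_inr, hsmul, (residue_eq_zero_iff _).2 (hc i 1), zero_smul,
        TrivSqZeroExt.inr_zero]
    · rw [hsq _ _ (by omega), mul_zero]
  let φ' := Ideal.Quotient.lift (eqId d c) φ hker
  refine ⟨fun x => ((φ' x).fst, (φ' x).snd), fun a => ?_, fun i => ?_, fun x y => ?_, ?_⟩
  · change ((φ (MvPolynomial.C a)).fst, (φ (MvPolynomial.C a)).snd) = _
    rw [hφC]
    rfl
  · change ((φ (MvPolynomial.X i)).fst, (φ (MvPolynomial.X i)).snd) = _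
    rw [hφX]
    rfl
  · dsimp only
    rw [map_add]
    rfl
  · intro x y β γ hx hy
    dsimp only at hx hy ⊢
    rw [map_mul, TrivSqZeroExt.fst_mul, TrivSqZeroExt.snd_mul, hx, hy, map_mul,
      op_smul_eq_smul, hsmul, hsmul]

/-- The elements of `A` in the square of the maximal ideal. -/
theorem comap_sq [IsLocalRing (MvPolynomial ι A ⧸ eqId d c)]
    (hmax : maximalIdeal (MvPolynomial ι A ⧸ eqId d c) =
      (maximalIdeal A).map (algebraMap A (MvPolynomial ι A ⧸ eqId d c)) ⊔
        Ideal.span (Set.range fun i => Ideal.Quotient.mk (eqId d c) (MvPolynomial.X i))) :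
    Ideal.comap (algebraMap A (MvPolynomial ι A ⧸ eqId d c))
      (maximalIdeal (MvPolynomial ι A ⧸ eqId d c) ^ 2) = J0 c := by
  classical
  refine le_antisymm (fun a ha => ?_) (sup_le ?_ (Ideal.span_le.2 ?_))
  · obtain ⟨ψ, hA, hX, hadd, hmul⟩ := exists_psi (d := d) (c := c) hd hc
    have h0 : ψ 0 = 0 := by
      have := hadd 0 0
      rw [add_zero] at this
      exact left_eq_add.1 this
    have hfst : ∀ x ∈ maximalIdeal (MvPolynomial ι A ⧸ eqId d c),
        ∃ γ ∈ maximalIdeal A, (ψ x).1 = Ideal.Quotient.mk _ γ := by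
      intro x hx
      rw [hmax, ← Ideal.span_eq (maximalIdeal A), Ideal.map_span, ← Ideal.span_union] at hx
      induction hx using Submodule.span_induction with
      | mem z hz =>
        rcases hz with ⟨g, hg, rfl⟩ | ⟨i, rfl⟩
        · exact ⟨g, hg, by rw [hA]⟩
        · exact ⟨0, zero_mem _, by rw [hX, map_zero]⟩
      | zero => exact ⟨0, zero_mem _, by rw [h0, map_zero]; rfl⟩
      | add x y _ _ hx hy =>
        obtain ⟨a, ha, hax⟩ := hx
        obtain ⟨b, hb, hby⟩ := hy
        exact ⟨a + b, add_mem ha hb, by rw [hadd, Prod.fst_add, hax, hby, map_add]⟩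
      | smul r x _ hx =>
        obtain ⟨b, hb, hbx⟩ := hx
        obtain ⟨β, hβ⟩ := Ideal.Quotient.mk_surjective (ψ r).1
        exact ⟨β * b, Ideal.mul_mem_left _ _ hb, by rw [smul_eq_mul, hmul r x β b hβ.symm hbx]⟩
    have hkill : ∀ x ∈ maximalIdeal (MvPolynomial ι A ⧸ eqId d c) ^ 2, ψ x = 0 := by
      intro x hx
      rw [pow_two] at hx
      refine Submodule.mul_induction_on hx (fun y hy z hz => ?_)
        fun y z hy hz => by rw [hadd, hy, hz, add_zero]
      obtain ⟨β, hβ, hyβ⟩ := hfst y hy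
      obtain ⟨γ, hγ, hzγ⟩ := hfst z hz
      rw [hmul y z β γ hyβ hzγ, (residue_eq_zero_iff _).2 hβ, (residue_eq_zero_iff _).2 hγ,
        zero_smul, zero_smul, add_zero]
      refine Prod.ext (Ideal.Quotient.eq_zero_iff_mem.2 (Ideal.mem_sup_left ?_)) rfl
      rw [pow_two]
      exact Ideal.mul_mem_mul hβ hγ
    have := hkill _ ha
    rw [hA] at this
    exact Ideal.Quotient.eq_zero_iff_mem.1 (congr_arg Prod.fst this)
  · rw [← Ideal.map_le_iff_le_comap, Ideal.map_pow]
    exact Ideal.pow_right_mono (hmax ▸ le_sup_left) 2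
  · rintro _ ⟨i, rfl⟩
    exact const_mem_sq hd hc hmax.ge i

end

section Regular

variable {A : Type u} [CommRing A] [IsRegularLocalRing A] {ι : Type v} [Fintype ι] {d : ι → ℕ}
  {c : ι → ℕ → A} (hd : ∀ i, 2 ≤ d i) (hc : ∀ i k, c i k ∈ maximalIdeal A)
include hd hc

theorem isRegularLocalRing_iff [IsLocalRing (MvPolynomial ι A ⧸ eqId d c)]
    (hmax : maximalIdeal (MvPolynomial ι A ⧸ eqId d c) =
      (maximalIdeal A).map (algebraMap A (MvPolynomial ι A ⧸ eqId d c)) ⊔
        Ideal.span (Set.range fun i => Ideal.Quotient.mk (eqId d c) (MvPolynomial.X i))) :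
    IsRegularLocalRing (MvPolynomial ι A ⧸ eqId d c) ↔
      LinearIndependent (ResidueField A)
        (fun i => (maximalIdeal A).toCotangent ⟨c i 0, hc i 0⟩) := by
  classical
  obtain ⟨hfin, hinj, hnt⟩ := basic hd hc
  haveI : FaithfulSMul A (MvPolynomial ι A ⧸ eqId d c) :=
    (faithfulSMul_iff_algebraMap_injective _ _).2 hinj
  have hdim : ringKrullDim (MvPolynomial ι A ⧸ eqId d c) = ringKrullDim A :=
    Groth.Agent.Lib.Dim.Integral.ringKrullDim_eq_of_isIntegral
  have hA : (Module.finrank (ResidueField A) (CotangentSpace A) : WithBot ℕ∞) = ringKrullDim A :=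
    (IsRegularLocalRing.iff_finrank_cotangentSpace A).1 inferInstance
  set v : ι → CotangentSpace A := fun i => (maximalIdeal A).toCotangent ⟨c i 0, hc i 0⟩ with hv
  set W : Submodule (ResidueField A) (CotangentSpace A) :=
    Submodule.span (ResidueField A) (Set.range v) with hW
  constructor
  · intro hreg
    obtain ⟨ψ, hψA, hψX, hψadd, hψmul⟩ := exists_psi (d := d) (c := c) hd hc
    have hψ0 : ψ 0 = 0 := by
      have := hψadd 0 0
      rw [add_zero] at this
      exact left_eq_add.1 this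
    have hN := (IsRegularLocalRing.iff_finrank_cotangentSpace _).1 hreg
    rw [hdim, ← hA, Nat.cast_inj] at hN
    let b := Module.finBasisOfFinrankEq (ResidueField (MvPolynomial ι A ⧸ eqId d c))
      (CotangentSpace (MvPolynomial ι A ⧸ eqId d c)) hN
    choose g hg using fun j =>
      Ideal.toCotangent_surjective (maximalIdeal (MvPolynomial ι A ⧸ eqId d c)) (b j)
    have hgspan : Submodule.span (MvPolynomial ι A ⧸ eqId d c) (Set.range g) = ⊤ := by
      rw [← CotangentSpace.span_image_eq_top_iff, ← Set.range_comp,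
        show (maximalIdeal (MvPolynomial ι A ⧸ eqId d c)).toCotangent ∘ g = b from funext hg]
      exact b.span_eq
    let P := (CotangentSpace A ⧸ W) × (ι → ResidueField A)
    have hwd0 : ∀ (a : A) (ha : a ∈ J0 c),
        W.mkQ ((maximalIdeal A).toCotangent ⟨a, J0_le hc ha⟩) = 0 := by
      intro a ha
      obtain ⟨u, hu, z, hz, rfl⟩ := Submodule.mem_sup.1 ha
      have hum : u ∈ maximalIdeal A := Ideal.pow_le_self two_ne_zero hu
      have hzm : z ∈ maximalIdeal A :=
        (Ideal.span_le.2 (by rintro _ ⟨i, rfl⟩; exact hc i 0) :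
          Ideal.span (Set.range fun i => c i 0) ≤ maximalIdeal A) hz
      rw [show (⟨u + z, J0_le hc ha⟩ : maximalIdeal A) = ⟨u, hum⟩ + ⟨z, hzm⟩ from rfl, map_add,
        (Ideal.toCotangent_eq_zero _ ⟨u, hum⟩).2 hu, zero_add]
      clear hu hum ha
      induction hz using Submodule.span_induction with
      | mem y hy =>
        obtain ⟨i, rfl⟩ := hy
        exact (Submodule.Quotient.mk_eq_zero W).2 (Submodule.subset_span ⟨i, rfl⟩)
      | zero => exact (congr_arg W.mkQ (map_zero _)).trans (map_zero _)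
      | add x y hx' hy' hx hy =>
        have hxm : x ∈ maximalIdeal A :=
          (Ideal.span_le.2 (by rintro _ ⟨i, rfl⟩; exact hc i 0) :
            Ideal.span (Set.range fun i => c i 0) ≤ maximalIdeal A) hx'
        have hym : y ∈ maximalIdeal A :=
          (Ideal.span_le.2 (by rintro _ ⟨i, rfl⟩; exact hc i 0) :
            Ideal.span (Set.range fun i => c i 0) ≤ maximalIdeal A) hy'
        rw [show (⟨x + y, hzm⟩ : maximalIdeal A) = ⟨x, hxm⟩ + ⟨y, hym⟩ from rfl, map_add, map_add,
          hx hxm, hy hym, add_zero]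
      | smul r x hx' hx =>
        have hxm : x ∈ maximalIdeal A :=
          (Ideal.span_le.2 (by rintro _ ⟨i, rfl⟩; exact hc i 0) :
            Ideal.span (Set.range fun i => c i 0) ≤ maximalIdeal A) hx'
        rw [show (⟨r • x, hzm⟩ : maximalIdeal A) = r • ⟨x, hxm⟩ from rfl, map_smul,
          ← algebraMap_smul (ResidueField A) r ((maximalIdeal A).toCotangent ⟨x, hxm⟩),
          map_smul, hx hxm, smul_zero]
    have hwd : ∀ (a a' : A) (ha : a ∈ maximalIdeal A) (ha' : a' ∈ maximalIdeal A),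
        Ideal.Quotient.mk (J0 c) a = Ideal.Quotient.mk (J0 c) a' →
        W.mkQ ((maximalIdeal A).toCotangent ⟨a, ha⟩) =
          W.mkQ ((maximalIdeal A).toCotangent ⟨a', ha'⟩) := by
      intro a a' ha ha' h
      rw [← sub_eq_zero, ← map_sub, ← map_sub]
      exact hwd0 _ (Ideal.Quotient.eq.1 h)
    have hlift : ∀ x ∈ maximalIdeal (MvPolynomial ι A ⧸ eqId d c),
        ∃ γ ∈ maximalIdeal A, (ψ x).1 = Ideal.Quotient.mk _ γ := by
      intro x hx
      rw [hmax, ← Ideal.span_eq (maximalIdeal A), Ideal.map_span, ← Ideal.span_union] at hx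
      induction hx using Submodule.span_induction with
      | mem z hz =>
        rcases hz with ⟨y, hy, rfl⟩ | ⟨i, rfl⟩
        · exact ⟨y, hy, by rw [hψA]⟩
        · exact ⟨0, zero_mem _, by rw [hψX, map_zero]⟩
      | zero => exact ⟨0, zero_mem _, by rw [hψ0, map_zero]; rfl⟩
      | add x y _ _ hx hy =>
        obtain ⟨a, ha, hax⟩ := hx
        obtain ⟨a', ha', hay⟩ := hy
        exact ⟨a + a', add_mem ha ha', by rw [hψadd, Prod.fst_add, hax, hay, map_add]⟩
      | smul r x _ hx =>
        obtain ⟨a, ha, hax⟩ := hx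
        obtain ⟨β, hβ⟩ := Ideal.Quotient.mk_surjective (ψ r).1
        exact ⟨β * a, Ideal.mul_mem_left _ _ ha, by rw [smul_eq_mul, hψmul r x β a hβ.symm hax]⟩
    choose α hα hαg using fun j => hlift (g j).1 (g j).2
    let q : Fin (Module.finrank (ResidueField A) (CotangentSpace A)) → P := fun j =>
      (W.mkQ ((maximalIdeal A).toCotangent ⟨α j, hα j⟩), (ψ (g j).1).2)
    have hP : ∀ (y : maximalIdeal (MvPolynomial ι A ⧸ eqId d c)) (a : A) (ha : a ∈ maximalIdeal A),
        (ψ y.1).1 = Ideal.Quotient.mk _ a →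
        ((W.mkQ ((maximalIdeal A).toCotangent ⟨a, ha⟩), (ψ y.1).2) : P) ∈
          Submodule.span (ResidueField A) (Set.range q) := by
      intro y
      have hy : y ∈ Submodule.span (MvPolynomial ι A ⧸ eqId d c) (Set.range g) := hgspan ▸ trivial
      induction hy using Submodule.span_induction with
      | mem z hz =>
        obtain ⟨j, rfl⟩ := hz
        intro a ha h
        rw [hwd a (α j) ha (hα j) (h.symm.trans (hαg j))]
        exact Submodule.subset_span ⟨j, rfl⟩
      | zero =>
        intro a ha h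
        rw [show ((0 : maximalIdeal (MvPolynomial ι A ⧸ eqId d c)) : MvPolynomial ι A ⧸ eqId d c) = 0
          from rfl, hψ0] at h ⊢
        rw [hwd0 a (Ideal.Quotient.eq_zero_iff_mem.1 h.symm)]
        exact Submodule.zero_mem _
      | add x y _ _ hx hy =>
        intro a ha h
        obtain ⟨a₁, ha₁, hax⟩ := hlift x.1 x.2
        obtain ⟨a₂, ha₂, hay⟩ := hlift y.1 y.2
        rw [Submodule.coe_add, hψadd, Prod.fst_add, hax, hay, ← map_add] at h
        rw [hwd a (a₁ + a₂) ha (add_mem ha₁ ha₂) h.symm, Submodule.coe_add, hψadd,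
          show (⟨a₁ + a₂, add_mem ha₁ ha₂⟩ : maximalIdeal A) = ⟨a₁, ha₁⟩ + ⟨a₂, ha₂⟩ from rfl,
          map_add, map_add]
        exact Submodule.add_mem _ (hx a₁ ha₁ hax) (hy a₂ ha₂ hay)
      | smul r x _ hx =>
        intro a ha h
        obtain ⟨a₁, ha₁, hax⟩ := hlift x.1 x.2
        obtain ⟨β, hβ⟩ := Ideal.Quotient.mk_surjective (ψ r).1
        rw [Submodule.coe_smul, smul_eq_mul, hψmul r x.1 β a₁ hβ.symm hax] at h ⊢
        have hmem := Submodule.smul_mem _ (residue A β) (hx a₁ ha₁ hax)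
        rw [Prod.smul_mk, ← map_smul] at hmem
        rw [hwd a (β * a₁) ha (Ideal.mul_mem_left _ _ ha₁) h.symm, (residue_eq_zero_iff a₁).2 ha₁,
          zero_smul, add_zero]
        exact hmem
    have htop : ⊤ ≤ Submodule.span (ResidueField A) (Set.range q) := by
      rintro ⟨z₁, z₂⟩ -
      obtain ⟨z₁, rfl⟩ := W.mkQ_surjective z₁
      obtain ⟨⟨a, ha⟩, rfl⟩ := (maximalIdeal A).toCotangent_surjective z₁
      have h1 := hP ⟨algebraMap A _ a, hmax.ge (Ideal.mem_sup_left (Ideal.mem_map_of_mem _ ha))⟩ a ha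
        (by rw [hψA])
      rw [hψA] at h1
      have h2 : ∀ i, ((0, Pi.single i 1) : P) ∈ Submodule.span (ResidueField A) (Set.range q) := by
        intro i
        have h := hP ⟨_, hmax.ge (Ideal.mem_sup_right (Ideal.subset_span ⟨i, rfl⟩))⟩ 0 (zero_mem _)
          (by rw [hψX, map_zero])
        rw [hψX] at h
        rwa [show (⟨0, zero_mem _⟩ : maximalIdeal A) = 0 from rfl, map_zero, map_zero] at h
      have h3 : ((W.mkQ ((maximalIdeal A).toCotangent ⟨a, ha⟩), z₂) : P) =
          (W.mkQ ((maximalIdeal A).toCotangent ⟨a, ha⟩), 0) +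
            ∑ i, z₂ i • ((0, Pi.single i 1) : P) := by
        refine Prod.ext ?_ ?_
        · simp [Prod.fst_sum]
        · simp only [Prod.snd_add, Prod.snd_sum, Prod.smul_snd, zero_add]
          exact pi_eq_sum_univ' z₂
      rw [h3]
      exact Submodule.add_mem _ h1 (Submodule.sum_mem _ fun i _ => Submodule.smul_mem _ _ (h2 i))
    have hle : Module.finrank (ResidueField A) P ≤
        Module.finrank (ResidueField A) (CotangentSpace A) := by
      have h := finrank_range_le_card (R := ResidueField A) q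
      rw [Set.finrank, top_le_iff.1 htop, finrank_top, Fintype.card_fin] at h
      exact h
    have hVW := W.finrank_quotient_add_finrank
    rw [Module.finrank_prod, Module.finrank_fintype_fun_eq_card] at hle
    have hle' : Module.finrank (ResidueField A) W ≤ Fintype.card ι :=
      finrank_range_le_card (R := ResidueField A) v
    refine linearIndependent_iff_card_eq_finrank_span.2 ?_
    show Fintype.card ι = Module.finrank (ResidueField A) W
    omega
  · intro hli
    let u := Module.finBasis (ResidueField A) (CotangentSpace A ⧸ W)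
    choose z hz using fun j => W.mkQ_surjective (u j)
    choose a ha using fun j => (maximalIdeal A).toCotangent_surjective (z j)
    have hAspan : Submodule.span A (Set.range a ∪ Set.range fun i => (⟨c i 0, hc i 0⟩ : maximalIdeal A)) = ⊤ := by
      rw [← CotangentSpace.span_image_eq_top_iff, Set.image_union, ← Set.range_comp, ← Set.range_comp]
      refine top_le_iff.1 fun y _ => ?_
      have hy : W.mkQ y ∈ Submodule.span (ResidueField A) (Set.range u) := by
        rw [u.span_eq]; trivial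
      rw [show (u : _ → CotangentSpace A ⧸ W) = W.mkQ ∘ z from funext fun j => (hz j).symm,
        Set.range_comp, ← Submodule.map_span] at hy
      obtain ⟨y', hy', hyy⟩ := hy
      have hmem : y - y' ∈ W := by
        rw [← Submodule.Quotient.eq]
        exact hyy.symm
      rw [show y = y' + (y - y') by abel]
      refine Submodule.add_mem _ ?_ ?_
      · refine Submodule.span_mono ?_ hy'
        rintro _ ⟨j, rfl⟩
        exact Or.inl ⟨j, ha j⟩
      · exact Submodule.span_mono (by rintro _ ⟨i, rfl⟩; exact Or.inr ⟨i, rfl⟩) hmem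
    let S : Ideal (MvPolynomial ι A ⧸ eqId d c) :=
      Ideal.span ((Set.range fun j => algebraMap A _ (a j).1) ∪
        Set.range fun i => Ideal.Quotient.mk (eqId d c) (MvPolynomial.X i))
    have hmle : maximalIdeal (MvPolynomial ι A ⧸ eqId d c) ≤
        S ⊔ maximalIdeal (MvPolynomial ι A ⧸ eqId d c) • maximalIdeal (MvPolynomial ι A ⧸ eqId d c) := by
      rw [smul_eq_mul, ← pow_two]
      refine hmax.le.trans (sup_le (Ideal.map_le_iff_le_comap.2 fun y hy => ?_) ?_)
      · have hy' : (⟨y, hy⟩ : maximalIdeal A) ∈ Submodule.span A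
            (Set.range a ∪ Set.range fun i => (⟨c i 0, hc i 0⟩ : maximalIdeal A)) := hAspan ▸ trivial
        have h := Submodule.apply_mem_span_image_of_mem_span (maximalIdeal A).subtype hy'
        refine (Ideal.span_le.2 ?_ : Ideal.span _ ≤ _) h
        rintro _ ⟨w, (⟨j, rfl⟩ | ⟨i, rfl⟩), rfl⟩
        · exact Ideal.mem_sup_left (Ideal.subset_span (Or.inl ⟨j, rfl⟩))
        · exact Ideal.mem_sup_right (const_mem_sq hd hc hmax.ge i)
      · exact le_sup_of_le_left (Ideal.span_mono Set.subset_union_right)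
    have hmS : maximalIdeal (MvPolynomial ι A ⧸ eqId d c) ≤ S :=
      Submodule.le_of_le_smul_of_le_jacobson_bot (Ideal.fg_of_isNoetherianRing _)
        (IsLocalRing.jacobson_eq_maximalIdeal _ bot_ne_top).ge hmle
    have hSm : S ≤ maximalIdeal (MvPolynomial ι A ⧸ eqId d c) := Ideal.span_le.2 (by
      rintro _ (⟨j, rfl⟩ | ⟨i, rfl⟩)
      · exact hmax.ge (Ideal.mem_sup_left (Ideal.mem_map_of_mem _ (a j).2))
      · exact hmax.ge (Ideal.mem_sup_right (Ideal.subset_span ⟨i, rfl⟩)))
    refine IsRegularLocalRing.of_spanFinrank_maximalIdeal_le _ ?_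
    rw [le_antisymm hmS hSm, hdim, ← hA]
    have hcard : (S.spanFinrank : WithBot ℕ∞) ≤
        ((Module.finrank (ResidueField A) (CotangentSpace A) : ℕ) : WithBot ℕ∞) := by
      rw [Nat.cast_le]
      refine (Submodule.spanFinrank_span_le_ncard_of_finite
        ((Set.finite_range _).union (Set.finite_range _))).trans ((Set.ncard_union_le _ _).trans ?_)
      rw [← W.finrank_quotient_add_finrank]
      refine add_le_add ?_ ?_
      · rw [← Set.image_univ]
        exact (Set.ncard_image_le).trans (by simp)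
      · rw [← Set.image_univ]
        refine (Set.ncard_image_le).trans ?_
        rw [hW, finrank_span_eq_card hli, Set.ncard_univ, Nat.card_eq_fintype_card]
    exact hcard

end Regular

end Groth.Agent.Lib.PBasis.Eisenstein
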