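import Groth.Agent.Lib.PBasis.Eventual
import Mathlib.FieldTheory.IntermediateField.Adjoin.Defs

/-!
# Directed families of intermediate fields
-/

universe u

open EGA41

namespace Groth.Agent.Lib.PBasis.EventualIF

open Groth.Agent.Lib.PBasis.Field

variable (p : ℕ) [Fact p.Prime] {k₀ K : Type u} [Field k₀] [Field K] [Algebra k₀ K] [CharP K p]

theorem mem_pPower_iff (F : IntermediateField k₀ K) (y : K) :
    y ∈ pPowerSubalgebra p F K ↔
      y ∈ F ⊔ IntermediateField.adjoin k₀ (Set.range fun z : K => z ^ p) := by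
  have h : (FF p F (∅ : Set K)).restrictScalars k₀ =
      F ⊔ IntermediateField.adjoin k₀ (Set.range fun z : K => z ^ p) := by
    rw [FF, Set.union_empty, IntermediateField.restrictScalars_adjoin,
      IntermediateField.adjoin_union, IntermediateField.adjoin_self]
  rw [← Eventual.mem_FF_empty_iff, ← h]
  rfl

theorem mem_pPower_base_iff (y : K) :
    y ∈ pPowerSubalgebra p k₀ K ↔
      y ∈ IntermediateField.adjoin k₀ (Set.range fun z : K => z ^ p) := by
  rw [← Eventual.mem_FF_empty_iff, FF, Set.union_empty]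

variable {ι : Type u} (k : ι → IntermediateField k₀ K)

theorem hanti_iff [Preorder ι] (hk : Antitone k) :
    ∀ i j, i ≤ j → ∀ y ∈ pPowerSubalgebra p (k j) K, y ∈ pPowerSubalgebra p (k i) K :=
  fun i j hij y hy => by
    rw [mem_pPower_iff] at hy ⊢
    exact sup_le_sup_right (hk hij) _ hy

theorem hint_iff
    (h : (⨅ i, k i ⊔ IntermediateField.adjoin k₀ (Set.range fun y : K => y ^ p)) =
      IntermediateField.adjoin k₀ (Set.range fun y : K => y ^ p)) :
    ∀ y, (∀ i, y ∈ pPowerSubalgebra p (k i) K) → y ∈ pPowerSubalgebra p k₀ K := fun y hy => by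
  rw [mem_pPower_base_iff, ← h, ← SetLike.mem_coe, IntermediateField.coe_iInf, Set.mem_iInter]
  exact fun i => (mem_pPower_iff p (k i) y).1 (hy i)

/-- An element of the intersection has differential killed by all the maps. -/
theorem map_D_eq_zero {i : ι} {y : K}
    (hy : y ∈ k i ⊔ IntermediateField.adjoin k₀ (Set.range fun z : K => z ^ p)) :
    KaehlerDifferential.D (k i) K y = 0 :=
  Deriv.derivation_pPower_eq_zero _ ((mem_pPower_iff p (k i) y).2 hy)

end Groth.Agent.Lib.PBasis.EventualIF
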