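import Groth.Agent.Lib.PBasis.Conormal
import Mathlib.RingTheory.MvPolynomial.Basic
import Mathlib.Algebra.TrivSqZeroExt.Basic
import Mathlib.LinearAlgebra.Dimension.OrzechProperty

/-!
# Cotangent space of `A[T]/(F)` for equations whose differential is `- d w`
-/

universe u v w

namespace Groth.Agent.Lib.PBasis.JacobianIndex

open IsLocalRing TensorProduct Groth.Agent.Lib.PBasis.Cartier Groth.Agent.Lib.PBasis.Conormal

/-- Extending a derivation of the coefficients to the polynomial ring. -/
theorem exists_derivation {A : Type u} [CommRing A] {ι : Type v} {M : Type w} [AddCommGroup M]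
    [Module (MvPolynomial ι A) M] [Module A M] [IsScalarTower A (MvPolynomial ι A) M]
    (δ : Derivation ℤ A M) (y : ι → M) :
    ∃ D : Derivation ℤ (MvPolynomial ι A) M,
      (∀ a, D (MvPolynomial.C a) = δ a) ∧ ∀ i, D (MvPolynomial.X i) = y i := by
  letI : Module (MvPolynomial ι A)ᵐᵒᵖ M :=
    Module.compHom M (RingEquiv.toOpposite (MvPolynomial ι A)).symm.toRingHom
  haveI : IsCentralScalar (MvPolynomial ι A) M := ⟨fun _ _ => rfl⟩
  have hC : ∀ (a : A) (z : M), (MvPolynomial.C a : MvPolynomial ι A) • z = a • z := fun a z =>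
    algebraMap_smul (MvPolynomial ι A) a z
  let φ : A →+* TrivSqZeroExt (MvPolynomial ι A) M :=
    { toFun := fun a => TrivSqZeroExt.inl (MvPolynomial.C a) + TrivSqZeroExt.inr (δ a)
      map_one' := TrivSqZeroExt.ext (by simp) (by simp)
      map_mul' := fun a b => TrivSqZeroExt.ext (by simp) (by simp [hC])
      map_zero' := TrivSqZeroExt.ext (by simp) (by simp)
      map_add' := fun a b => TrivSqZeroExt.ext (by simp) (by simp) }
  let h : MvPolynomial ι A →+* TrivSqZeroExt (MvPolynomial ι A) M := MvPolynomial.eval₂Hom φ fun i =>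
    TrivSqZeroExt.inl (MvPolynomial.X i) + TrivSqZeroExt.inr (y i)
  have hfst : ∀ q, (h q).fst = q := by
    intro q
    induction q using MvPolynomial.induction_on with
    | C a => simp [h, φ]
    | add a b ha hb => simp [ha, hb]
    | mul_X a i ha =>
      rw [map_mul, TrivSqZeroExt.fst_mul, ha]
      simp [h]
  refine ⟨Derivation.mk' (AddMonoidHom.toIntLinearMap
      { toFun := fun q => (h q).snd
        map_zero' := by simp
        map_add' := fun a b => by simp }) (fun a b => ?_), fun a => ?_, fun i => ?_⟩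
  · change (h (a * b)).snd = a • (h b).snd + b • (h a).snd
    simp [hfst]
  · change (h (MvPolynomial.C a)).snd = δ a
    simp [h, φ]
  · change (h (MvPolynomial.X i)).snd = y i
    simp [h]

section Presentation

variable {A B : Type u} [CommRing A] [CommRing B] [Algebra A B] {ι : Type v}
  (π : MvPolynomial ι A →ₐ[A] B) (p : ℕ) (F : ι → MvPolynomial ι A) (w : ι → A)

/-- The hypothesis on the equations. -/
def DiffEq : Prop :=
  ∀ (M : Type max u v) [AddCommGroup M] [Module (MvPolynomial ι A) M],
    (∀ z : M, p • z = 0) →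
      ∀ (D : Derivation ℤ (MvPolynomial ι A) M) (i : ι), D (F i) = - D (MvPolynomial.C (w i))

variable {π p F w}

theorem apply_w_eq_zero (hF : DiffEq p F w) (hπ : Ideal.span (Set.range F) ≤ RingHom.ker π)
    {N : Type max u v} [AddCommGroup N] [Module B N] (hp0 : ∀ z : N, p • z = 0)
    (d : Derivation ℤ B N) (i : ι) : d (algebraMap A B (w i)) = 0 := by
  letI : Module (MvPolynomial ι A) N := Module.compHom N π.toRingHom
  let D : Derivation ℤ (MvPolynomial ι A) N := Derivation.mk' (AddMonoidHom.toIntLinearMap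
    { toFun := fun q => d (π q)
      map_zero' := by simp
      map_add' := fun a b => by simp })
    (fun a b => by
      change d (π (a * b)) = π a • d (π b) + π b • d (π a)
      rw [map_mul, Derivation.leibniz])
  have h := hF N hp0 D i
  rw [show D (F i) = 0 from by
    change d (π (F i)) = 0
    rw [RingHom.mem_ker.1 (hπ (Ideal.subset_span ⟨i, rfl⟩)), map_zero], eq_comm, neg_eq_zero] at h
  rw [← π.commutes (w i)]
  exact h

theorem exists_derivation_quotient (hF : DiffEq p F w) (hπs : Function.Surjective π)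
    (hker : RingHom.ker π = Ideal.span (Set.range F))
    {N : Type max u v} [AddCommGroup N] [Module B N] [Module A N] [IsScalarTower A B N]
    (hp0 : ∀ z : N, p • z = 0) (δ : Derivation ℤ A N) (hδ : ∀ i, δ (w i) = 0) (y : ι → N) :
    ∃ d : Derivation ℤ B N,
      (∀ a, d (algebraMap A B a) = δ a) ∧ ∀ i, d (π (MvPolynomial.X i)) = y i := by
  letI : Module (MvPolynomial ι A) N := Module.compHom N π.toRingHom
  have hN : ∀ (q : MvPolynomial ι A) (z : N), q • z = π q • z := fun _ _ => rfl
  haveI : IsScalarTower A (MvPolynomial ι A) N := ⟨fun a q z => by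
    rw [hN, hN, map_smul, smul_assoc]⟩
  obtain ⟨D, hDC, hDX⟩ := exists_derivation δ y
  have hDker : ∀ q, π q = 0 → D q = 0 := by
    intro q hq
    have hmem : q ∈ Ideal.span (Set.range F) := hker ▸ RingHom.mem_ker.2 hq
    induction hmem using Submodule.span_induction with
    | mem z hz =>
      obtain ⟨i, rfl⟩ := hz
      rw [hF N hp0 D i, hDC, hδ, neg_zero]
    | zero => exact map_zero D
    | add a b ha' hb' ha hb =>
      rw [map_add, ha (RingHom.mem_ker.1 (hker.ge ha')), hb (RingHom.mem_ker.1 (hker.ge hb')),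
        add_zero]
    | smul r a ha' ha =>
      have ha0 : π a = 0 := RingHom.mem_ker.1 (hker.ge ha')
      rw [smul_eq_mul, Derivation.leibniz, ha ha0, smul_zero, zero_add, hN, ha0, zero_smul]
  choose σ hσ using hπs
  have hDσ : ∀ q, D (σ (π q)) = D q := fun q => by
    rw [← sub_eq_zero, ← map_sub]
    exact hDker _ (by rw [map_sub, hσ, sub_self])
  refine ⟨Derivation.mk' (AddMonoidHom.toIntLinearMap
      { toFun := fun b => D (σ b)
        map_zero' := hDker _ (hσ 0)
        map_add' := fun a b => by
          rw [← map_add D, ← hDσ (σ a + σ b), map_add, hσ, hσ] })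
      (fun a b => by
        change D (σ (a * b)) = a • D (σ b) + b • D (σ a)
        rw [show σ (a * b) = σ (π (σ a * σ b)) by rw [map_mul, hσ, hσ], hDσ, Derivation.leibniz, hN,
          hN, hσ, hσ]), fun a => ?_, fun i => ?_⟩
  · change D (σ (algebraMap A B a)) = δ a
    rw [← π.commutes a, hDσ]
    exact hDC a
  · change D (σ (π _)) = y i
    rw [hDσ, hDX]

end Presentation

section Theta

variable {A B : Type u} [CommRing A] [CommRing B] [Algebra A B] {ι : Type} [Fintype ι]
  (π : MvPolynomial ι A →ₐ[A] B) (L : Type u) [CommRing L] [Algebra A L] [Algebra B L]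
  [IsScalarTower A B L]

/-- `L ⊗ Ω_A → L ⊗ Ω_B`. -/
noncomputable def theta₁ : L ⊗[A] Ω[A⁄ℤ] →ₗ[L] L ⊗[B] Ω[B⁄ℤ] :=
  LinearMap.liftBaseChange L
    (((TensorProduct.mk B L (Ω[B⁄ℤ]) 1).restrictScalars A) ∘ₗ KaehlerDifferential.map ℤ ℤ A B)

/-- The presentation of `L ⊗ Ω_B`. -/
noncomputable def theta : (L ⊗[A] Ω[A⁄ℤ]) × (ι → L) →ₗ[L] L ⊗[B] Ω[B⁄ℤ] :=
  (theta₁ L).coprod (Fintype.linearCombination L fun i =>
    (1 : L) ⊗ₜ[B] KaehlerDifferential.D ℤ B (π (MvPolynomial.X i)))

theorem theta_inl (x : L) (ω : Ω[A⁄ℤ]) :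
    theta π L (x ⊗ₜ[A] ω, 0) = x ⊗ₜ[B] KaehlerDifferential.map ℤ ℤ A B ω := by
  simp [theta, theta₁, LinearMap.liftBaseChange_tmul, TensorProduct.smul_tmul']

theorem theta_single [DecidableEq ι] (i : ι) :
    theta π L (0, Pi.single i 1) = (1 : L) ⊗ₜ[B] KaehlerDifferential.D ℤ B (π (MvPolynomial.X i)) := by
  simp [theta, Fintype.linearCombination_apply_single]

variable {π L} {p : ℕ} {F : ι → MvPolynomial ι A} {w : ι → A}

theorem theta_surjective (hπ : Function.Surjective π) : Function.Surjective (theta π L) := by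
  classical
  have hd : ∀ q, (1 : L) ⊗ₜ[B] KaehlerDifferential.D ℤ B (π q) ∈ LinearMap.range (theta π L) := by
    intro q
    induction q using MvPolynomial.induction_on with
    | C a =>
      refine ⟨((1 : L) ⊗ₜ[A] KaehlerDifferential.D ℤ A a, 0), ?_⟩
      rw [theta_inl, KaehlerDifferential.map_D]
      rw [show π (MvPolynomial.C a) = algebraMap A B a from π.commutes a]
    | add a b ha hb => rw [map_add, map_add, TensorProduct.tmul_add]; exact add_mem ha hb
    | mul_X a i ha =>
      rw [map_mul, Derivation.leibniz, TensorProduct.tmul_add, TensorProduct.tmul_smul,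
        TensorProduct.tmul_smul]
      refine add_mem ?_ ?_
      · rw [← algebraMap_smul L (π a)]
        exact Submodule.smul_mem _ _ ⟨_, theta_single π L i⟩
      · rw [← algebraMap_smul L (π (MvPolynomial.X i))]
        exact Submodule.smul_mem _ _ ha
  intro z
  induction z using TensorProduct.induction_on with
  | zero => exact ⟨0, map_zero _⟩
  | add a b ha hb =>
    obtain ⟨a', rfl⟩ := ha
    obtain ⟨b', rfl⟩ := hb
    exact ⟨a' + b', map_add _ _ _⟩
  | tmul x ω =>
    have hω : ω ∈ Submodule.span B (Set.range (KaehlerDifferential.D ℤ B)) := by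
      rw [KaehlerDifferential.span_range_derivation]; trivial
    have h1 : (1 : L) ⊗ₜ[B] ω ∈ LinearMap.range (theta π L) := by
      induction hω using Submodule.span_induction with
      | mem a ha => obtain ⟨b, rfl⟩ := ha; obtain ⟨q, rfl⟩ := hπ b; exact hd q
      | zero => simp
      | add a b _ _ ha hb => rw [TensorProduct.tmul_add]; exact add_mem ha hb
      | smul r a _ ha =>
        rw [TensorProduct.tmul_smul, ← algebraMap_smul L r]; exact Submodule.smul_mem _ _ ha
    obtain ⟨z', hz'⟩ := h1
    exact ⟨x • z', by rw [map_smul, hz']; simp [TensorProduct.smul_tmul']⟩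

theorem ker_theta (hF : DiffEq p F w) (hπ : Function.Surjective π)
    (hker : RingHom.ker π = Ideal.span (Set.range F)) (hpL : (p : L) = 0) :
    LinearMap.ker (theta π L) = Submodule.span L (Set.range fun i =>
      (((1 : L) ⊗ₜ[A] KaehlerDifferential.D ℤ A (w i), 0) : (L ⊗[A] Ω[A⁄ℤ]) × (ι → L))) := by
  classical
  have hp0 : ∀ {M : Type u} [AddCommGroup M] [Module L M] (z : M), p • z = 0 := fun {M} _ _ z => by
    rw [← Nat.cast_smul_eq_nsmul L, hpL, zero_smul]
  set W := Submodule.span L (Set.range fun i =>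
    (((1 : L) ⊗ₜ[A] KaehlerDifferential.D ℤ A (w i), 0) : (L ⊗[A] Ω[A⁄ℤ]) × (ι → L))) with hW
  refine le_antisymm (fun z hz => ?_) ?_
  · let q := W.mkQ
    let δ : Derivation ℤ A (((L ⊗[A] Ω[A⁄ℤ]) × (ι → L)) ⧸ W) :=
      ((q.restrictScalars A) ∘ₗ ((LinearMap.inl L (L ⊗[A] Ω[A⁄ℤ]) (ι → L)).restrictScalars A) ∘ₗ
        TensorProduct.mk A L (Ω[A⁄ℤ]) 1).compDer (KaehlerDifferential.D ℤ A)
    have hδ : ∀ i, δ (w i) = 0 := fun i =>
      (Submodule.Quotient.mk_eq_zero W).2 (Submodule.subset_span ⟨i, rfl⟩)
    obtain ⟨d, hdC, hdX⟩ := exists_derivation_quotient hF hπ hker (fun z => hp0 z) δ hδ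
      (fun i => q (0, Pi.single i 1))
    let l := d.liftKaehlerDifferential.liftBaseChange L
    have hl : l ∘ₗ theta π L = q := by
      refine LinearMap.prod_ext ?_ ?_
      · refine TensorProduct.AlgebraTensorModule.ext fun x ω => ?_
        change l (theta π L (x ⊗ₜ[A] ω, 0)) = q (x ⊗ₜ[A] ω, 0)
        have h2 : (d.liftKaehlerDifferential.restrictScalars A) ∘ₗ
            (KaehlerDifferential.map ℤ ℤ A B) =
            (q.restrictScalars A) ∘ₗ ((LinearMap.inl L (L ⊗[A] Ω[A⁄ℤ]) (ι → L)).restrictScalars A) ∘ₗ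
              TensorProduct.mk A L (Ω[A⁄ℤ]) 1 := by
          refine Derivation.liftKaehlerDifferential_unique _ _ (Derivation.ext fun a => ?_)
          change d.liftKaehlerDifferential (KaehlerDifferential.map ℤ ℤ A B
            (KaehlerDifferential.D ℤ A a)) = δ a
          rw [KaehlerDifferential.map_D, Derivation.liftKaehlerDifferential_comp_D, hdC]
        rw [theta_inl, LinearMap.liftBaseChange_tmul]
        have h3 := LinearMap.congr_fun h2 ω
        simp only [LinearMap.comp_apply, LinearMap.coe_restrictScalars] at h3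
        rw [h3, ← map_smul, ← map_smul]
        simp [TensorProduct.smul_tmul']
      · refine LinearMap.pi_ext' fun i => LinearMap.ext_ring ?_
        change l (theta π L (0, Pi.single i 1)) = q (0, Pi.single i 1)
        rw [theta_single, LinearMap.liftBaseChange_tmul, one_smul,
          Derivation.liftKaehlerDifferential_comp_D, hdX]
    rw [← Submodule.Quotient.mk_eq_zero W]
    have h := LinearMap.congr_fun hl z
    rw [LinearMap.comp_apply, LinearMap.mem_ker.1 hz, map_zero] at h
    exact h.symm
  · rw [hW, Submodule.span_le]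
    rintro _ ⟨i, rfl⟩
    change theta π L ((1 : L) ⊗ₜ[A] KaehlerDifferential.D ℤ A (w i), 0) = 0
    rw [theta_inl, KaehlerDifferential.map_D]
    exact apply_w_eq_zero hF hker.ge (fun z => hp0 z)
      ((TensorProduct.mk B L (Ω[B⁄ℤ]) 1).compDer (KaehlerDifferential.D ℤ B)) i

theorem mapBaseChange_theta (x : L) (ω : Ω[A⁄ℤ]) :
    KaehlerDifferential.mapBaseChange ℤ B L (theta π L (x ⊗ₜ[A] ω, 0)) =
      KaehlerDifferential.mapBaseChange ℤ A L (x ⊗ₜ[A] ω) := by
  rw [theta_inl, KaehlerDifferential.mapBaseChange_tmul, KaehlerDifferential.mapBaseChange_tmul]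
  congr 1
  have h2 : (KaehlerDifferential.map ℤ ℤ B L).restrictScalars A ∘ₗ
        (KaehlerDifferential.map ℤ ℤ A B) = KaehlerDifferential.map ℤ ℤ A L := by
    refine Derivation.liftKaehlerDifferential_unique _ _ (Derivation.ext fun b => ?_)
    simp [← IsScalarTower.algebraMap_apply]
  exact LinearMap.congr_fun h2 ω

end Theta

theorem linearIndependent_baseChange_iff {A K L : Type u} [CommRing A] [Field K] [Field L]
    [Algebra A K] [Algebra A L] [Algebra K L] [IsScalarTower A K L] {M : Type u} [AddCommGroup M]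
    [Module A M] {ι : Type} [Fintype ι] (m : ι → M) :
    LinearIndependent L (fun i => (1 : L) ⊗ₜ[A] m i) ↔
      LinearIndependent K (fun i => (1 : K) ⊗ₜ[A] m i) := by
  classical
  let e := TensorProduct.AlgebraTensorModule.cancelBaseChange A K L L M
  have he : ∀ i, e ((1 : L) ⊗ₜ[K] ((1 : K) ⊗ₜ[A] m i)) = (1 : L) ⊗ₜ[A] m i := fun i => by simp [e]
  constructor
  · intro hv
    rw [Fintype.linearIndependent_iff] at hv ⊢
    intro c hc i
    refine (algebraMap K L).injective ((hv (fun i => algebraMap K L (c i)) ?_ i).trans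
      (map_zero _).symm)
    have h3 := congr_arg (fun z : K ⊗[A] M => e ((1 : L) ⊗ₜ[K] z)) hc
    simp only [TensorProduct.tmul_sum, map_sum, TensorProduct.tmul_zero, map_zero] at h3
    rw [← h3]
    refine Finset.sum_congr rfl fun j _ => ?_
    rw [TensorProduct.tmul_smul, ← algebraMap_smul L (c j) ((1 : L) ⊗ₜ[K] ((1 : K) ⊗ₜ[A] m j)),
      map_smul, he]
  · intro hu
    let g : (ι → K) →ₗ[K] K ⊗[A] M := Fintype.linearCombination K fun i => (1 : K) ⊗ₜ[A] m i
    obtain ⟨r, hr⟩ := LinearMap.exists_leftInverse_of_injective g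
      (LinearMap.ker_eq_bot.2 hu.fintypeLinearCombination_injective)
    rw [Fintype.linearIndependent_iff]
    intro c hc i
    let φ : L ⊗[A] M →ₗ[L] L := (TensorProduct.AlgebraTensorModule.rid K L L).toLinearMap ∘ₗ
      ((LinearMap.proj i).comp r).baseChange L ∘ₗ e.symm.toLinearMap
    have hφ : ∀ j, φ ((1 : L) ⊗ₜ[A] m j) = if i = j then 1 else 0 := by
      intro j
      have h2 : r (g (Pi.single j 1)) = Pi.single j 1 := LinearMap.congr_fun hr _
      simp only [g, Fintype.linearCombination_apply_single, one_smul] at h2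
      simp [φ, e, h2, Pi.single_apply]
    have h3 := congr_arg φ hc
    simpa [map_sum, hφ] using h3

theorem good_inl (L V : Type u) [Field L] [AddCommGroup V] [Module L V] (ι : Type) [Fintype ι] :
    Good (LinearMap.inl L V (ι → L)) (- (Fintype.card ι : ℤ)) := by
  let e : ((V × (ι → L)) ⧸ LinearMap.range (LinearMap.inl L V (ι → L))) ≃ₗ[L] (ι → L) :=
    (Submodule.quotEquivOfEq _ _ (LinearMap.range_inl L V (ι → L))).trans
      (LinearMap.quotKerEquivOfSurjective (LinearMap.snd L V (ι → L)) Prod.snd_surjective)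
  refine ⟨?_, Module.Finite.equiv e.symm, ?_⟩
  · rw [LinearMap.ker_eq_bot.2 LinearMap.inl_injective]
    infer_instance
  · rw [LinearMap.index_of_injective LinearMap.inl_injective, e.finrank_eq,
      Module.finrank_fintype_fun_eq_card]

section Main

variable {A B : Type u} [CommRing A] [IsLocalRing A] [CommRing B] [IsLocalRing B] [Algebra A B]
  {ι : Type} [Fintype ι]

/-- If every derivation sends `F i` to `- d (w i)` and `B = A[T]/(F)`, then the cotangent spaces of
`A` and `B` have the same dimension iff the `d w i` are independent. -/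
theorem finrank_cotangent_eq_iff [IsNoetherianRing A] [IsNoetherianRing B]
    [IsLocalHom (algebraMap A B)] [Module.Finite A B]
    {p : ℕ} [Fact p.Prime] [CharP (ResidueField A) p] (hp : (p : A) ∈ maximalIdeal A ^ 2)
    {π : MvPolynomial ι A →ₐ[A] B} (hπ : Function.Surjective π) {F : ι → MvPolynomial ι A}
    (hker : RingHom.ker π = Ideal.span (Set.range F)) {w : ι → A} (hF : DiffEq p F w) :
    Module.finrank (ResidueField A) (CotangentSpace A) =
        Module.finrank (ResidueField B) (CotangentSpace B) ↔
      LinearIndependent (ResidueField A)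
        fun i => (1 : ResidueField A) ⊗ₜ[A] KaehlerDifferential.D ℤ A (w i) := by
  classical
  haveI hchar : CharP (ResidueField B) p := charP_of_injective_algebraMap
    (algebraMap (ResidueField A) (ResidueField B)).injective p
  haveI : Module.Finite A (ResidueField B) := Module.Finite.of_surjective
    (IsScalarTower.toAlgHom A B (ResidueField B)).toLinearMap residue_surjective
  haveI : Module.Finite (ResidueField A) (ResidueField B) :=
    Module.Finite.of_restrictScalars_finite A _ _
  have hpB : (p : B) ∈ maximalIdeal B ^ 2 := by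
    rw [← map_natCast (algebraMap A B) p]
    have h1 : algebraMap A B p ∈ ((maximalIdeal A) ^ 2).map (algebraMap A B) :=
      Ideal.mem_map_of_mem _ hp
    rw [Ideal.map_pow] at h1
    refine Ideal.pow_right_mono ?_ 2 h1
    exact Ideal.map_le_iff_le_comap.2 fun a ha =>
      (mem_maximalIdeal _).2 fun hu => (mem_maximalIdeal _).1 ha (IsUnit.of_map (algebraMap A B) a hu)
  have hα : Good (KaehlerDifferential.mapBaseChange ℤ A (ResidueField B))
      (Module.finrank (ResidueField A) (CotangentSpace A) : ℤ) := by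
    have := good_comp A (K := ResidueField A) (L := ResidueField B) (good_resMap A p hp)
      (hasIndex_of_finite (K := ResidueField A))
    rw [zero_add] at this
    exact this
  have hkerΘ := ker_theta (L := ResidueField B) hF hπ hker (CharP.cast_eq_zero _ p)
  have hsurj := theta_surjective (L := ResidueField B) hπ
  set v : ι → (ResidueField B ⊗[A] Ω[A⁄ℤ]) × (ι → ResidueField B) :=
    fun i => ((1 : ResidueField B) ⊗ₜ[A] KaehlerDifferential.D ℤ A (w i), 0) with hv
  have hΘ : Good (theta π (ResidueField B))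
      (Module.finrank (ResidueField B) (Submodule.span (ResidueField B) (Set.range v)) : ℤ) := by
    haveI := Module.Finite.iff_fg.2 (Submodule.fg_span (R := ResidueField B) (Set.finite_range v))
    haveI := Submodule.Quotient.subsingleton_iff.2 (LinearMap.range_eq_top.2 hsurj)
    refine ⟨?_, inferInstance, ?_⟩
    · rw [hkerΘ]; infer_instance
    · rw [LinearMap.index_of_surjective hsurj, hkerΘ]
  have hΨ := (good_resMap B p hpB).comp hΘ
  have hinl := good_inl (ResidueField B) (ResidueField B ⊗[A] Ω[A⁄ℤ]) ι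
  have hfin := hΨ.comp hinl
  have heq : (resMap B ∘ₗ theta π (ResidueField B)) ∘ₗ LinearMap.inl (ResidueField B)
      (ResidueField B ⊗[A] Ω[A⁄ℤ]) (ι → ResidueField B) =
      KaehlerDifferential.mapBaseChange ℤ A (ResidueField B) :=
    TensorProduct.AlgebraTensorModule.ext fun x ω => mapBaseChange_theta x ω
  rw [heq] at hfin
  have hnum := hα.2.2.symm.trans hfin.2.2
  have hW : Fintype.card ι =
      Module.finrank (ResidueField B) (Submodule.span (ResidueField B) (Set.range v)) ↔
      LinearIndependent (ResidueField B) v :=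
    (linearIndependent_iff_card_eq_finrank_span (R := ResidueField B)).symm
  rw [← linearIndependent_baseChange_iff (K := ResidueField A) (L := ResidueField B),
    ← LinearMap.linearIndependent_iff (LinearMap.inl (ResidueField B)
      (ResidueField B ⊗[A] Ω[A⁄ℤ]) (ι → ResidueField B))
      (LinearMap.ker_eq_bot.2 LinearMap.inl_injective)]
  refine Iff.trans ?_ hW
  constructor <;> intro h <;> omega

end Main

end Groth.Agent.Lib.PBasis.JacobianIndex
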