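import Mathlib.RingTheory.LocalRing.MaximalIdeal.Basic
import Mathlib.RingTheory.Ideal.GoingUp
import Mathlib.RingTheory.AdjoinRoot
import Mathlib.RingTheory.MvPolynomial.Basic
import Mathlib.RingTheory.FiniteType
import Mathlib.RingTheory.IntegralClosure.IsIntegral.Basic
import Mathlib.RingTheory.IntegralClosure.IsIntegralClosure.Basic
import Mathlib.RingTheory.LocalRing.ResidueField.Basic
import Mathlib.Algebra.CharP.Lemmas
import Mathlib.Algebra.MvPolynomial.Polynomial

/-!
# Quotients of polynomial rings by monic one-variable equations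
-/

universe u v

namespace Groth.Agent.Lib.PBasis.LocalQuot

open IsLocalRing

/-- An integral algebra over a local ring in which powers are congruent to scalars is local. -/
theorem isLocalRing_of_forall {A : Type u} {B : Type v} [CommRing A] [IsLocalRing A] [CommRing B] [Algebra A B]
    [Algebra.IsIntegral A B] [Nontrivial B]
    (h : ∀ b : B, ∃ n : ℕ, n ≠ 0 ∧ ∃ a : A, ∀ M : Ideal B, M.IsMaximal →
      b ^ n - algebraMap A B a ∈ M) :
    IsLocalRing B ∧ IsLocalHom (algebraMap A B) ∧
      ∀ M : Ideal B, M.IsMaximal → (maximalIdeal A).map (algebraMap A B) ≤ M := by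
  have hcomap : ∀ M : Ideal B, M.IsMaximal → M.comap (algebraMap A B) = maximalIdeal A := fun M hM =>
    eq_maximalIdeal (Ideal.isMaximal_comap_of_isIntegral_of_isMaximal M)
  have hle : ∀ M : Ideal B, M.IsMaximal → (maximalIdeal A).map (algebraMap A B) ≤ M := fun M hM =>
    Ideal.map_le_iff_le_comap.2 (hcomap M hM).ge
  have key : ∀ M : Ideal B, M.IsMaximal → ∀ N : Ideal B, N.IsMaximal → M ≤ N := by
    intro M hM N hN b hb
    obtain ⟨n, hn, a, ha⟩ := h b
    have h1 : algebraMap A B a ∈ M := by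
      have := M.sub_mem (M.pow_mem_of_mem hb n (Nat.pos_of_ne_zero hn)) (ha M hM)
      simpa using this
    have h2 : algebraMap A B a ∈ N := by
      have : a ∈ maximalIdeal A := (hcomap M hM) ▸ Ideal.mem_comap.2 h1
      exact hle N hN (Ideal.mem_map_of_mem _ this)
    have h3 : b ^ n ∈ N := by
      simpa using N.add_mem (ha N hN) h2
    exact hN.isPrime.mem_of_pow_mem n h3
  obtain ⟨M₀, hM₀⟩ := Ideal.exists_maximal B
  haveI hloc : IsLocalRing B := IsLocalRing.of_unique_max_ideal
    ⟨M₀, hM₀, fun N hN => le_antisymm (key N hN M₀ hM₀) (key M₀ hM₀ N hN)⟩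
  refine ⟨hloc, ⟨fun a ha => ?_⟩, hle⟩
  by_contra hna
  exact (maximalIdeal.isMaximal B).ne_top (Ideal.eq_top_of_isUnit_mem _
    (hle _ (maximalIdeal.isMaximal B) (Ideal.mem_map_of_mem _ ((mem_maximalIdeal _).2 hna))) ha)

variable {A : Type u} [CommRing A] [Nontrivial A] {ι : Type*} [Finite ι]

/-- Monic polynomials have roots in an injective extension. -/
theorem exists_roots (g : ι → Polynomial A) (hg : ∀ i, (g i).Monic) (hd : ∀ i, (g i).natDegree ≠ 0) :
    ∃ (C : Type u) (_ : CommRing C) (_ : Algebra A C),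
      Function.Injective (algebraMap A C) ∧ ∀ i, ∃ x : C, Polynomial.aeval x (g i) = 0 := by
  classical
  haveI := Fintype.ofFinite ι
  suffices H : ∀ s : Finset ι, ∃ (C : Type u) (_ : CommRing C) (_ : Algebra A C),
      Function.Injective (algebraMap A C) ∧ ∀ i ∈ s, ∃ x : C, Polynomial.aeval x (g i) = 0 by
    obtain ⟨C, i1, i2, h1, h2⟩ := H Finset.univ
    exact ⟨C, i1, i2, h1, fun i => h2 i (Finset.mem_univ i)⟩
  intro s
  induction s using Finset.induction with
  | empty => exact ⟨A, inferInstance, inferInstance, fun a b h => h, by simp⟩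
  | insert j s _ ih =>
    obtain ⟨C, i1, i2, h1, h2⟩ := ih
    haveI : Nontrivial C := h1.nontrivial
    let q := (g j).map (algebraMap A C)
    have hq : q.Monic := (hg j).map _
    have hqd : q.natDegree ≠ 0 := by rw [(hg j).natDegree_map]; exact hd j
    refine ⟨AdjoinRoot q, inferInstance, inferInstance, fun a b hab => h1 ?_, fun i hi => ?_⟩
    · rw [IsScalarTower.algebraMap_apply A C (AdjoinRoot q),
        IsScalarTower.algebraMap_apply A C (AdjoinRoot q)] at hab
      by_contra hne
      have h0 : AdjoinRoot.mk q (Polynomial.C (algebraMap A C a - algebraMap A C b)) = 0 := by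
        rw [AdjoinRoot.mk_C, map_sub, ← AdjoinRoot.algebraMap_eq, hab, sub_self]
      rw [AdjoinRoot.mk_eq_zero] at h0
      exact hq.not_dvd_of_natDegree_lt (Polynomial.C_ne_zero.2 (sub_ne_zero.2 hne))
        (by rw [Polynomial.natDegree_C]; exact Nat.pos_of_ne_zero hqd) h0
    · rcases Finset.mem_insert.1 hi with rfl | hi
      · exact ⟨AdjoinRoot.root q, by
          rw [← Polynomial.aeval_map_algebraMap C, AdjoinRoot.aeval_eq, AdjoinRoot.mk_self]⟩
      · obtain ⟨x, hx⟩ := h2 i hi
        exact ⟨algebraMap C (AdjoinRoot q) x, by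
          rw [Polynomial.aeval_algebraMap_apply, hx, map_zero]⟩

/-- The equations in separate variables, as ideal of the polynomial ring. -/
noncomputable def eqIdeal (g : ι → Polynomial A) : Ideal (MvPolynomial ι A) :=
  Ideal.span (Set.range fun i => Polynomial.aeval (MvPolynomial.X i) (g i))

theorem injective_algebraMap_quotient (g : ι → Polynomial A) (hg : ∀ i, (g i).Monic)
    (hd : ∀ i, (g i).natDegree ≠ 0) :
    Function.Injective (algebraMap A (MvPolynomial ι A ⧸ eqIdeal g)) := by
  obtain ⟨C, _, _, hinj, hroot⟩ := exists_roots g hg hd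
  choose x hx using hroot
  let φ : MvPolynomial ι A →ₐ[A] C := MvPolynomial.aeval x
  have hle : eqIdeal g ≤ RingHom.ker φ := by
    rw [eqIdeal, Ideal.span_le]
    rintro _ ⟨i, rfl⟩
    change φ (Polynomial.aeval (MvPolynomial.X i) (g i)) = 0
    rw [← Polynomial.aeval_algHom_apply]
    simp [φ, hx]
  let ψ := Ideal.Quotient.liftₐ (eqIdeal g) φ hle
  refine Function.Injective.of_comp (f := ψ) ?_
  have : (ψ ∘ algebraMap A (MvPolynomial ι A ⧸ eqIdeal g)) = algebraMap A C :=
    funext fun a => ψ.commutes a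
  rw [this]
  exact hinj

theorem isIntegral_quotient (g : ι → Polynomial A) (hg : ∀ i, (g i).Monic) :
    Algebra.IsIntegral A (MvPolynomial ι A ⧸ eqIdeal g) := by
  constructor
  intro b
  obtain ⟨q, rfl⟩ := Ideal.Quotient.mk_surjective b
  induction q using MvPolynomial.induction_on with
  | C a => exact isIntegral_algebraMap
  | add a b ha hb => rw [map_add]; exact ha.add hb
  | mul_X a i ha =>
    rw [map_mul]
    refine ha.mul ⟨g i, hg i, ?_⟩
    rw [← Polynomial.aeval_def, ← Ideal.Quotient.mkₐ_eq_mk A, Polynomial.aeval_algHom_apply]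
    exact Ideal.Quotient.eq_zero_iff_mem.2 (Ideal.subset_span ⟨i, rfl⟩)

omit [Nontrivial A] [Finite ι] in
theorem exists_pow_sub_mem_of_X {B : Type*} [CommRing B] [Algebra A B]
    (φ : MvPolynomial ι A →ₐ[A] B) (I : Ideal B) (p : ℕ) [Fact p.Prime] (hp : (p : B) ∈ I)
    (hX : ∀ i, ∃ a : A, φ (MvPolynomial.X i) ^ p - algebraMap A B a ∈ I) (q : MvPolynomial ι A) :
    ∃ a : A, φ q ^ p - algebraMap A B a ∈ I := by
  induction q using MvPolynomial.induction_on with
  | C a => exact ⟨a ^ p, by rw [show φ (MvPolynomial.C a) = algebraMap A B a from φ.commutes a,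
      ← map_pow, sub_self]; exact I.zero_mem⟩
  | add x y hx hy =>
    obtain ⟨a, ha⟩ := hx
    obtain ⟨b, hb⟩ := hy
    refine ⟨a + b, ?_⟩
    rw [map_add, map_add, add_pow_prime_eq Fact.out]
    convert I.add_mem (I.add_mem ha hb) (I.mul_mem_right (φ x * φ y *
      ∑ k ∈ Finset.Ioo 0 p, φ x ^ (k - 1) * φ y ^ (p - k - 1) * (↑(p.choose k / p) : B)) hp) using 1
    ring
  | mul_X x i hx =>
    obtain ⟨a, ha⟩ := hx
    obtain ⟨b, hb⟩ := hX i
    refine ⟨a * b, ?_⟩
    rw [map_mul, mul_pow, map_mul]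
    convert I.add_mem (I.mul_mem_right (φ (MvPolynomial.X i) ^ p) ha)
      (I.mul_mem_left (algebraMap A B a) hb) using 1
    ring

end Groth.Agent.Lib.PBasis.LocalQuot
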