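import Groth.Agent.Lib.PBasis.JacobianIndex
import Groth.Agent.Lib.PBasis.LocalQuot
import Groth.Agent.Lib.Dim.Integral
import Groth.Agent.Lib.Regular.Serre
import Mathlib.RingTheory.Polynomial.Basic
import Mathlib.RingTheory.RegularLocalRing.Defs

/-!
# Quotients by equations `T_i ^ p + p G_i - f_i`
-/

universe u v

namespace Groth.Agent.Lib.PBasis.PEquations

open IsLocalRing TensorProduct

variable {A : Type u} [CommRing A] {ι : Type v} (p : ℕ)

/-- The one-variable equation. -/
noncomputable def poly (c : Fin p → A) (f : A) : Polynomial A :=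
  Polynomial.X ^ p + (p : Polynomial A) * (Finset.univ.sum fun j : Fin p =>
    if (j : ℕ) = 0 then 0 else Polynomial.C (c j) * Polynomial.X ^ (p - (j : ℕ))) - Polynomial.C f

theorem aeval_poly (c : Fin p → A) (f : A) (i : ι) :
    Polynomial.aeval (MvPolynomial.X i : MvPolynomial ι A) (poly p c f) =
      MvPolynomial.X i ^ p + (p : MvPolynomial ι A) * (Finset.univ.sum fun j : Fin p =>
        if (j : ℕ) = 0 then 0 else MvPolynomial.C (c j) * MvPolynomial.X i ^ (p - (j : ℕ))) -
          MvPolynomial.C f := by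
  simp [poly, map_sum, apply_ite (Polynomial.aeval (MvPolynomial.X i : MvPolynomial ι A)),
    MvPolynomial.algebraMap_eq]

variable {p} [Fact p.Prime]

theorem poly_monic [Nontrivial A] (c : Fin p → A) (f : A) :
    (poly p c f).Monic ∧ (poly p c f).natDegree ≠ 0 := by
  have hp0 : 0 < p := (Fact.out : p.Prime).pos
  have hmem : (p : Polynomial A) * (Finset.univ.sum fun j : Fin p =>
      if (j : ℕ) = 0 then 0 else Polynomial.C (c j) * Polynomial.X ^ (p - (j : ℕ))) -
        Polynomial.C f ∈ Polynomial.degreeLT A p := by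
    refine sub_mem ?_ ?_
    · rw [← nsmul_eq_mul]
      refine Submodule.smul_of_tower_mem _ _ (sum_mem fun j _ => ?_)
      split_ifs with h
      · exact zero_mem _
      · rw [Polynomial.mem_degreeLT]
        exact (Polynomial.degree_C_mul_X_pow_le _ _).trans_lt
          (by exact_mod_cast (show p - (j : ℕ) < p by omega))
    · rw [Polynomial.mem_degreeLT]
      exact Polynomial.degree_C_le.trans_lt (by exact_mod_cast hp0)
  rw [Polynomial.mem_degreeLT] at hmem
  have hm : (poly p c f).Monic := by
    rw [poly, add_sub_assoc]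
    exact Polynomial.monic_X_pow_add hmem
  refine ⟨hm, fun h0 => ?_⟩
  have h1 : (poly p c f).degree = (p : WithBot ℕ) := by
    rw [poly, add_sub_assoc, Polynomial.degree_add_eq_left_of_degree_lt] <;>
      rw [Polynomial.degree_X_pow]
    exact hmem
  rw [Polynomial.degree_eq_natDegree hm.ne_zero, h0] at h1
  have h2 : (0 : ℕ) = p := by exact_mod_cast h1
  omega

variable [IsLocalRing A] [CharP (ResidueField A) p] [Finite ι] (c : ι → Fin p → A) (f : ι → A)

theorem facts :
    let B := MvPolynomial ι A ⧸ LocalQuot.eqIdeal (fun i => poly p (c i) (f i))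
    IsLocalRing B ∧ IsLocalHom (algebraMap A B) ∧ Module.Finite A B ∧
      Function.Injective (algebraMap A B) ∧
      (maximalIdeal A).map (algebraMap A B) ≠ ⊤ ∧
      ∀ i, Ideal.Quotient.mk (LocalQuot.eqIdeal (fun i => poly p (c i) (f i))) (MvPolynomial.X i) ^ p -
        algebraMap A B (f i) ∈ (maximalIdeal A).map (algebraMap A B) := by
  intro B
  have hm := fun i => poly_monic (c i) (f i)
  have hinj := LocalQuot.injective_algebraMap_quotient _ (fun i => (hm i).1) (fun i => (hm i).2)
  haveI : Nontrivial B := hinj.nontrivial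
  haveI hint : Algebra.IsIntegral A B := LocalQuot.isIntegral_quotient _ (fun i => (hm i).1)
  haveI : Algebra.FiniteType A B := Algebra.FiniteType.of_surjective (Ideal.Quotient.mkₐ A _)
    (Ideal.Quotient.mkₐ_surjective A _)
  have hpA : (p : A) ∈ maximalIdeal A := by
    rw [← residue_eq_zero_iff, map_natCast, CharP.cast_eq_zero]
  have hpB : (p : B) ∈ (maximalIdeal A).map (algebraMap A B) := by
    rw [← map_natCast (algebraMap A B)]
    exact Ideal.mem_map_of_mem _ hpA
  have hX : ∀ i, (Ideal.Quotient.mkₐ A (LocalQuot.eqIdeal fun i => poly p (c i) (f i)))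
      (MvPolynomial.X i) ^ p - algebraMap A B (f i) ∈ (maximalIdeal A).map (algebraMap A B) := by
    intro i
    have h0 : (Ideal.Quotient.mkₐ A (LocalQuot.eqIdeal fun i => poly p (c i) (f i)))
        (Polynomial.aeval (MvPolynomial.X i) (poly p (c i) (f i))) = 0 :=
      Ideal.Quotient.eq_zero_iff_mem.2 (Ideal.subset_span ⟨i, rfl⟩)
    rw [aeval_poly, map_sub, map_add, map_pow, map_mul, map_natCast] at h0
    set x := (Ideal.Quotient.mkₐ A (LocalQuot.eqIdeal fun i => poly p (c i) (f i))) (MvPolynomial.X i)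
    set s := (Ideal.Quotient.mkₐ A (LocalQuot.eqIdeal fun i => poly p (c i) (f i)))
      (Finset.univ.sum fun j : Fin p =>
        if (j : ℕ) = 0 then 0 else MvPolynomial.C (c i j) * MvPolynomial.X i ^ (p - (j : ℕ)))
    rw [show (Ideal.Quotient.mkₐ A (LocalQuot.eqIdeal fun i => poly p (c i) (f i)))
      (MvPolynomial.C (f i)) = algebraMap A B (f i) from rfl] at h0
    have h1 : x ^ p - algebraMap A B (f i) = -((p : B) * s) := by linear_combination h0
    rw [h1]
    exact neg_mem (Ideal.mul_mem_right _ _ hpB)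
  have hb : ∀ b : B, ∃ n : ℕ, n ≠ 0 ∧ ∃ a : A, ∀ M : Ideal B, M.IsMaximal →
      b ^ n - algebraMap A B a ∈ M := by
    intro b
    obtain ⟨q, rfl⟩ := Ideal.Quotient.mkₐ_surjective A _ b
    obtain ⟨a, ha⟩ := LocalQuot.exists_pow_sub_mem_of_X _ _ p hpB (fun i => ⟨f i, hX i⟩) q
    refine ⟨p, (Fact.out : p.Prime).ne_zero, a, fun M hM => ?_⟩
    have hle : (maximalIdeal A).map (algebraMap A B) ≤ M := Ideal.map_le_iff_le_comap.2
      (eq_maximalIdeal (Ideal.isMaximal_comap_of_isIntegral_of_isMaximal M)).ge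
    exact hle ha
  obtain ⟨hloc, hlh, hle⟩ := LocalQuot.isLocalRing_of_forall hb
  refine ⟨hloc, hlh, Algebra.IsIntegral.finite, hinj, ?_, hX⟩
  exact ne_top_of_le_ne_top (maximalIdeal.isMaximal B).ne_top (hle _ (maximalIdeal.isMaximal B))

omit [IsLocalRing A] [CharP (ResidueField A) p] [Finite ι] [Fact p.Prime] in
theorem diffEq [Fact p.Prime] :
    JacobianIndex.DiffEq p (fun i => Polynomial.aeval (MvPolynomial.X i : MvPolynomial ι A)
      (poly p (c i) (f i))) f := by
  intro M _ _ hp0 D i
  dsimp only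
  rw [aeval_poly, map_sub, map_add, Derivation.leibniz_pow, hp0, Derivation.leibniz,
    Derivation.map_natCast, smul_zero, add_zero, Nat.cast_smul_eq_nsmul, hp0, zero_add, zero_sub]

end Groth.Agent.Lib.PBasis.PEquations
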