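import Groth.Agent.Lib.PBasis.SplitCriterion
import Mathlib.RingTheory.Smooth.Basic
import Mathlib.RingTheory.Etale.Basic
import Mathlib.RingTheory.Etale.Kaehler

/-!
# Formal smoothness of localizations of quotients

`B` formally smooth over `A`, `C = B / J`. A derivation `δ : B → J/J²` restricting to `t • class` on
`J` makes the localizations of `C` inverting `t` formally smooth.
-/

universe u

namespace Groth.Agent.Lib.PBasis.SmoothQuot

open TensorProduct Groth.Agent.Lib.PBasis.SplitCriterion

variable {A B C : Type u} [CommRing A] [CommRing B] [CommRing C] [Algebra A B] [Algebra B C]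
  [Algebra A C] [IsScalarTower A B C]

/-- A derivation that is `t • class` on the kernel. -/
def HasSplit (A : Type u) [CommRing A] [Algebra A B] (C : Type u) [CommRing C] [Algebra B C]
    (t : B) : Prop :=
  ∃ δ : Derivation A B (RingHom.ker (algebraMap B C)).Cotangent,
    ∀ x : RingHom.ker (algebraMap B C),
      δ (x : B) = t • (RingHom.ker (algebraMap B C)).toCotangent x

theorem smul_cotangent_eq_zero {I : Ideal B} {x : B} (hx : x ∈ I) (z : I.Cotangent) : x • z = 0 := by
  obtain ⟨y, rfl⟩ := I.toCotangent_surjective z
  rw [← map_smul, Ideal.toCotangent_eq_zero, pow_two]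
  exact Ideal.mul_mem_mul hx y.2

section Criterion

variable (hsurj : Function.Surjective (algebraMap B C)) (N : Submonoid C) (S : Type u)
  [CommRing S] [Algebra C S] [IsLocalization N S] [Algebra B S] [IsScalarTower B C S]
  [Algebra A S] [IsScalarTower A C S]

/-- The elements of `B` invertible in `S`. -/
def units' : Submonoid B := (IsUnit.submonoid S).comap (algebraMap B S)

abbrev Pres : Type u := Localization (units' (B := B) S)

noncomputable def presHom [IsScalarTower A B S] : Pres (B := B) S →ₐ[A] S :=
  IsLocalization.liftAlgHom (M := units' (B := B) S) (f := IsScalarTower.toAlgHom A B S)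
    fun y => y.2

theorem presHom_algebraMap [IsScalarTower A B S] (b : B) :
    presHom (A := A) (B := B) S (algebraMap B _ b) = algebraMap B S b :=
  IsLocalization.lift_eq _ b

include N hsurj in
theorem presHom_surjective [IsScalarTower A B S] :
    Function.Surjective (presHom (A := A) (B := B) S) := by
  intro z
  obtain ⟨c, m, rfl⟩ := IsLocalization.exists_mk'_eq N z
  obtain ⟨b, rfl⟩ := hsurj c
  obtain ⟨b', hb'⟩ := hsurj (m : C)
  have hu : b' ∈ units' (B := B) S := by
    change IsUnit (algebraMap B S b')
    rw [IsScalarTower.algebraMap_apply B C S, hb']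
    exact IsLocalization.map_units S m
  refine ⟨IsLocalization.mk' _ b ⟨b', hu⟩, ?_⟩
  rw [IsLocalization.eq_mk'_iff_mul_eq]
  have h := congr_arg (presHom (A := A) (B := B) S)
    (IsLocalization.mk'_spec (M := units' (B := B) S) (Pres (B := B) S) b ⟨b', hu⟩)
  rw [map_mul, presHom_algebraMap, presHom_algebraMap, IsScalarTower.algebraMap_apply B C S b',
    IsScalarTower.algebraMap_apply B C S b, hb'] at h
  exact h

include N hsurj in
/-- A split at an element invertible in `S` gives formal smoothness. -/
theorem formallySmooth_of_hasSplit [Algebra.FormallySmooth A B] {t : B}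
    (ht : IsUnit (algebraMap B S t)) (h : HasSplit A C t) : Algebra.FormallySmooth A S := by
  haveI : IsScalarTower A B S := IsScalarTower.to₁₂₄ A B C S
  obtain ⟨δ, hδ⟩ := h
  let R := Pres (B := B) S
  let f : R →ₐ[A] S := presHom S
  have hf : Function.Surjective f := presHom_surjective hsurj N S
  haveI : Algebra.FormallySmooth B R := Algebra.FormallySmooth.of_isLocalization (units' (B := B) S)
  haveI : Algebra.FormallySmooth A R := Algebra.FormallySmooth.comp A B R
  let K := RingHom.ker f.toRingHom
  let T := R ⧸ K ^ 2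
  let τ : B →ₐ[A] T := (Ideal.Quotient.mkₐ A (K ^ 2)).comp (IsScalarTower.toAlgHom A B R)
  have hτ : ∀ b, τ b = Ideal.Quotient.mk (K ^ 2) (algebraMap B R b) := fun b => rfl
  have hJK : ∀ x ∈ RingHom.ker (algebraMap B C), algebraMap B R x ∈ K := fun x hx => by
    change f (algebraMap B R x) = 0
    rw [presHom_algebraMap, IsScalarTower.algebraMap_apply B C S, RingHom.mem_ker.1 hx, map_zero]
  let cl : (RingHom.ker (algebraMap B C)).Cotangent →ₗ[B] T :=
    Submodule.liftQ _ ((Algebra.linearMap B T).domRestrict (RingHom.ker (algebraMap B C))) (by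
      refine Submodule.smul_le.2 fun a ha z _ => ?_
      rw [LinearMap.mem_ker, map_smul]
      change a • algebraMap B T (z : B) = 0
      rw [Algebra.smul_def, ← map_mul, IsScalarTower.algebraMap_apply B R T,
        Ideal.Quotient.algebraMap_eq, Ideal.Quotient.eq_zero_iff_mem, map_mul, pow_two]
      exact Ideal.mul_mem_mul (hJK a ha) (hJK _ z.2))
  have hclK : ∀ z, ∃ r ∈ K, cl z = Ideal.Quotient.mk (K ^ 2) r := fun z => by
    obtain ⟨x, rfl⟩ := Submodule.mkQ_surjective _ z
    exact ⟨_, hJK _ x.2, rfl⟩
  have hclmul : ∀ z w, cl z * cl w = 0 := fun z w => by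
    obtain ⟨r, hr, hrz⟩ := hclK z
    obtain ⟨r', hr', hrw⟩ := hclK w
    rw [hrz, hrw, ← map_mul, Ideal.Quotient.eq_zero_iff_mem, pow_two]
    exact Ideal.mul_mem_mul hr hr'
  obtain ⟨t', ht'⟩ : ∃ t', τ t * t' = 1 := by
    have hu : IsUnit (algebraMap B R t) := IsLocalization.map_units R (⟨t, ht⟩ : units' (B := B) S)
    exact (hu.map (Ideal.Quotient.mk (K ^ 2))).exists_right_inv
  have hsmul : ∀ (b : B) z, cl (b • z) = τ b * cl z := fun b z => by
    rw [map_smul, Algebra.smul_def]
    rfl
  let σ : B →ₐ[A] T :=
    { toFun := fun b => τ b - t' * cl (δ b)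
      map_one' := by simp
      map_mul' := fun a b => by
        simp only [Derivation.leibniz, map_add, map_mul, hsmul]
        linear_combination (-(t' * t')) * hclmul (δ a) (δ b)
      map_zero' := by simp
      map_add' := fun a b => by simp only [map_add]; ring
      commutes' := fun a => by simp }
  have hσJ : ∀ x ∈ RingHom.ker (algebraMap B C), σ x = 0 := fun x hx => by
    change τ x - t' * cl (δ x) = 0
    rw [hδ ⟨x, hx⟩, hsmul, ← mul_assoc, mul_comm t', ht', one_mul, sub_eq_zero]
    rfl
  let σC : C →+* T := RingHom.liftOfSurjective (algebraMap B C) hsurj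
    ⟨σ.toRingHom, fun x hx => hσJ x hx⟩
  have hσC : ∀ b, σC (algebraMap B C b) = σ b := fun b =>
    RingHom.liftOfRightInverse_comp_apply _ _ _ _ b
  have hcomm : ∀ a, σC (algebraMap A C a) = algebraMap A T a := fun a => by
    rw [IsScalarTower.algebraMap_apply A B C, hσC, AlgHom.commutes]
  let σA : C →ₐ[A] T := { σC with commutes' := hcomm }
  have hunit : ∀ m : N, IsUnit (σA m) := fun m => by
    obtain ⟨b, hb⟩ := hsurj (m : C)
    change IsUnit (σC (m : C))
    rw [← hb, hσC]
    have hub : IsUnit (τ b) := by
      have : b ∈ units' (B := B) S := by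
        change IsUnit (algebraMap B S b)
        rw [IsScalarTower.algebraMap_apply B C S, hb]
        exact IsLocalization.map_units S m
      exact (IsLocalization.map_units R ⟨b, this⟩).map (Ideal.Quotient.mk (K ^ 2))
    have hnil : IsNilpotent (-(t' * cl (δ b))) :=
      ⟨2, by rw [pow_two, neg_mul_neg, mul_mul_mul_comm, hclmul, mul_zero]⟩
    change IsUnit (τ b - t' * cl (δ b))
    rw [sub_eq_add_neg]
    exact hnil.isUnit_add_left_of_commute hub (mul_comm _ _)
  let g : S →ₐ[A] T := IsLocalization.liftAlgHom (M := N) (f := σA) hunit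
  refine (Algebra.FormallySmooth.iff_split_surjection f hf).2 ⟨g, ?_⟩
  refine AlgHom.coe_ringHom_injective (IsLocalization.ringHom_ext N (RingHom.ext fun c => ?_))
  obtain ⟨b, rfl⟩ := hsurj c
  change f.kerSquareLift (g (algebraMap C S (algebraMap B C b))) = algebraMap C S (algebraMap B C b)
  rw [show g (algebraMap C S (algebraMap B C b)) = σA (algebraMap B C b) from
    IsLocalization.lift_eq _ _, show σA (algebraMap B C b) = σ b from hσC b]
  change f.kerSquareLift (τ b - t' * cl (δ b)) = _
  obtain ⟨r, hr, hrz⟩ := hclK (δ b)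
  rw [map_sub, map_mul, hrz]
  change f (algebraMap B R b) - _ * f r = _
  rw [show f r = 0 from hr, mul_zero, sub_zero, presHom_algebraMap, ← IsScalarTower.algebraMap_apply]

variable (κ : Type u) [Field κ] [Algebra S κ] [Algebra C κ] [Algebra B κ] [IsScalarTower C S κ]
  [IsScalarTower B C κ]

include N hsurj in
theorem ker_presHom [IsScalarTower A B S] :
    RingHom.ker (presHom (A := A) (B := B) S).toRingHom =
      (RingHom.ker (algebraMap B C)).map (algebraMap B (Pres (B := B) S)) := by
  refine le_antisymm (fun y hy => ?_) (Ideal.map_le_iff_le_comap.2 fun x hx => ?_)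
  · obtain ⟨b, s, rfl⟩ := IsLocalization.exists_mk'_eq (units' (B := B) S) y
    have h := congr_arg (presHom (A := A) (B := B) S)
      (IsLocalization.mk'_spec (M := units' (B := B) S) (Pres (B := B) S) b s)
    rw [map_mul, presHom_algebraMap, presHom_algebraMap,
      show presHom (A := A) (B := B) S (IsLocalization.mk' _ b s) = 0 from hy, zero_mul,
      IsScalarTower.algebraMap_apply B C S] at h
    obtain ⟨m, hm⟩ := (IsLocalization.map_eq_zero_iff N S _).1 h.symm
    obtain ⟨b', hb'⟩ := hsurj (m : C)
    have hu : b' ∈ units' (B := B) S := by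
      change IsUnit (algebraMap B S b')
      rw [IsScalarTower.algebraMap_apply B C S, hb']
      exact IsLocalization.map_units S m
    rw [IsLocalization.mk'_mem_map_algebraMap_iff]
    exact ⟨b', hu, by rw [RingHom.mem_ker, map_mul, hb', hm]⟩
  · change presHom (A := A) (B := B) S (algebraMap B _ x) = 0
    rw [presHom_algebraMap, IsScalarTower.algebraMap_apply B C S, RingHom.mem_ker.1 hx, map_zero]

include N hsurj in
/-- Formal smoothness of `S` makes the conormal map injective on points of `S`. -/
theorem injective_of_formallySmooth [Algebra.FormallySmooth A B] [Algebra.FormallySmooth A S] :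
    Function.Injective
      ((KaehlerDifferential.kerCotangentToTensor A B C).baseChange κ) := by
  haveI : IsScalarTower A B S := IsScalarTower.to₁₂₄ A B C S
  haveI : IsScalarTower B S κ := IsScalarTower.of_algebraMap_eq fun b => by
    rw [IsScalarTower.algebraMap_apply B C κ, IsScalarTower.algebraMap_apply C S κ,
      IsScalarTower.algebraMap_apply B C S]
  let R := Pres (B := B) S
  let f : R →ₐ[A] S := presHom S
  have hf : Function.Surjective f := presHom_surjective hsurj N S
  haveI : Algebra.FormallySmooth B R := Algebra.FormallySmooth.of_isLocalization (units' (B := B) S)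
  haveI : Algebra.FormallySmooth A R := Algebra.FormallySmooth.comp A B R
  obtain ⟨g, hg⟩ := (Algebra.FormallySmooth.iff_split_surjection f hf).1 ‹_›
  let J := RingHom.ker (algebraMap B C)
  let V := κ ⊗[B] J.Cotangent
  let ι : J →ₗ[B] V := (TensorProduct.mk B κ J.Cotangent 1) ∘ₗ J.toCotangent
  have hunitV : ∀ s : units' (B := B) S, IsUnit (algebraMap B (Module.End B V) s) := by
    intro s
    obtain ⟨v, hv⟩ := (s.2 : IsUnit (algebraMap B S s)).map (algebraMap S κ)
    have hact : ∀ z : V, (s : B) • z = (v : κ) • z := fun z => by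
      rw [hv, ← IsScalarTower.algebraMap_apply B S κ, algebraMap_smul]
    refine (Module.End.isUnit_iff _).2 ⟨fun a b hab => ?_, fun z => ⟨(↑v⁻¹ : κ) • z, ?_⟩⟩
    · have h1 : (v : κ) • a = (v : κ) • b := by rw [← hact, ← hact]; exact hab
      exact (smul_right_injective V v.ne_zero) h1
    · change (s : B) • ((↑v⁻¹ : κ) • z) = z
      rw [hact, ← mul_smul, Units.mul_inv, one_smul]
  let ψ : (J.map (algebraMap B R)) →ₗ[B] V :=
    IsLocalizedModule.lift (units' (B := B) S) (Algebra.idealMap J (S := R)) ι hunitV
  have hψι : ∀ x : J, ψ (Algebra.idealMap J (S := R) x) = ι x := fun x =>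
    IsLocalizedModule.lift_apply _ _ _ hunitV x
  have hinj : ∀ (s : units' (B := B) S) (a b : V), (s : B) • a = (s : B) • b → a = b :=
    fun s a b h => ((Module.End.isUnit_iff _).1 (hunitV s)).1 h
  have hK : ∀ y : R, y ∈ RingHom.ker f.toRingHom ↔ y ∈ J.map (algebraMap B R) := fun y => by
    rw [ker_presHom hsurj N S]
  have hψsq : ∀ (y : R) (hy : y ∈ J.map (algebraMap B R)), y ∈ RingHom.ker f.toRingHom ^ 2 →
      ψ ⟨y, hy⟩ = 0 := by
    intro y hy h2
    rw [ker_presHom hsurj N S, pow_two] at h2
    suffices ∃ h, ψ ⟨y, h⟩ = 0 by obtain ⟨_, h⟩ := this; exact h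
    clear hy
    refine Submodule.mul_induction_on h2 (fun a ha b hb => ⟨Ideal.mul_mem_left _ _ hb, ?_⟩)
      fun a b ⟨ha, hea⟩ ⟨hb, heb⟩ => ⟨add_mem ha hb, by
        rw [show (⟨a + b, add_mem ha hb⟩ : J.map (algebraMap B R)) = ⟨a, ha⟩ + ⟨b, hb⟩ from rfl,
          map_add, hea, heb, add_zero]⟩
    obtain ⟨⟨xa, sa⟩, hxa⟩ := IsLocalizedModule.surj (units' (B := B) S)
      (Algebra.idealMap J (S := R)) ⟨a, ha⟩
    obtain ⟨⟨xb, sb⟩, hxb⟩ := IsLocalizedModule.surj (units' (B := B) S)
      (Algebra.idealMap J (S := R)) ⟨b, hb⟩
    refine hinj (sa * sb) _ _ ?_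
    rw [smul_zero, ← map_smul]
    have he : ((sa * sb : units' (B := B) S) : B) • (⟨a * b, Ideal.mul_mem_left _ _ hb⟩ :
        J.map (algebraMap B R)) = Algebra.idealMap J (S := R) ((xa : B) • xb) := by
      refine Subtype.ext ?_
      have h1 : (sa : B) • a = algebraMap B R xa := congr_arg Subtype.val hxa
      have h2 : (sb : B) • b = algebraMap B R xb := congr_arg Subtype.val hxb
      change ((sa : B) * (sb : B)) • (a * b) = algebraMap B R ((xa : B) * (xb : B))
      rw [map_mul, ← h1, ← h2, smul_mul_smul_comm]
    rw [he, hψι]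
    simp only [ι, LinearMap.comp_apply, map_smul]
    rw [← map_smul, smul_cotangent_eq_zero xa.2, map_zero]
  have hrep : ∀ b : B, ∃ r : J.map (algebraMap B R),
      Ideal.Quotient.mk (RingHom.ker f.toRingHom ^ 2) (r : R) =
        Ideal.Quotient.mk _ (algebraMap B R b) - g (algebraMap B S b) := by
    intro b
    obtain ⟨y, hy⟩ := Ideal.Quotient.mk_surjective (g (algebraMap B S b))
    have hfy : f y = algebraMap B S b := by
      have h := AlgHom.congr_fun hg (algebraMap B S b)
      rw [AlgHom.comp_apply, ← hy] at h
      exact h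
    refine ⟨⟨algebraMap B R b - y, (hK _).1 ?_⟩, ?_⟩
    · change f (algebraMap B R b - y) = 0
      rw [map_sub, presHom_algebraMap, hfy, sub_self]
    · change Ideal.Quotient.mk _ (algebraMap B R b - y) = _
      rw [map_sub, hy]
  choose r hr using hrep
  have hwd : ∀ (b : B) (y : J.map (algebraMap B R)),
      Ideal.Quotient.mk (RingHom.ker f.toRingHom ^ 2) (y : R) =
        Ideal.Quotient.mk _ (algebraMap B R b) - g (algebraMap B S b) → ψ (r b) = ψ y := by
    intro b y hy
    rw [← sub_eq_zero, ← map_sub]
    exact hψsq _ _ (Ideal.Quotient.eq.1 ((hr b).trans hy.symm))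
  let q := Ideal.Quotient.mk (RingHom.ker f.toRingHom ^ 2)
  have hprod : ∀ a b : B, (q (algebraMap B R a) - g (algebraMap B S a)) *
      (q (algebraMap B R b) - g (algebraMap B S b)) = 0 := by
    intro a b
    rw [← hr a, ← hr b, ← map_mul, Ideal.Quotient.eq_zero_iff_mem, pow_two]
    exact Ideal.mul_mem_mul ((hK _).2 (r a).2) ((hK _).2 (r b).2)
  letI : Module A V := Module.compHom V (algebraMap A B)
  haveI : IsScalarTower A B V := IsScalarTower.of_algebraMap_smul fun _ _ => rfl
  let δ : Derivation A B V := Derivation.mk'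
    { toFun := fun b => ψ (r b)
      map_add' := fun a b => by
        rw [← map_add]
        refine hwd _ _ ?_
        rw [Submodule.coe_add, map_add, hr, hr]
        simp only [map_add]
        abel
      map_smul' := fun c b => by
        rw [RingHom.id_apply, ← algebraMap_smul B c (ψ (r b)), ← map_smul]
        refine hwd _ _ ?_
        change q (algebraMap A B c • (r b : R)) = _
        rw [Algebra.smul_def, map_mul, hr, ← IsScalarTower.algebraMap_apply A B R,
          Algebra.smul_def c b, map_mul, map_mul, map_mul, map_mul,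
          ← IsScalarTower.algebraMap_apply A B R, ← IsScalarTower.algebraMap_apply A B S,
          AlgHom.commutes, show q (algebraMap A R c) = algebraMap A _ c from rfl, mul_sub] }
    (fun a b => by
      change ψ (r (a * b)) = a • ψ (r b) + b • ψ (r a)
      rw [← map_smul, ← map_smul, ← map_add]
      refine hwd _ _ ?_
      change q (a • (r b : R) + b • (r a : R)) = _
      simp only [Algebra.smul_def, map_add, map_mul, hr]
      rw [show q ((r b : R)) = _ from hr b, show q ((r a : R)) = _ from hr a]
      dsimp only [q]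
      linear_combination hprod a b)
  have hδ : ∀ x : J, δ (x : B) = ι x := fun x => by
    rw [← hψι]
    change ψ (r (x : B)) = _
    refine hwd _ _ ?_
    change q (algebraMap B R (x : B)) = _
    rw [IsScalarTower.algebraMap_apply B C S, RingHom.mem_ker.1 x.2, map_zero, map_zero, sub_zero]
  let Λ : C ⊗[B] Ω[B⁄A] →ₗ[C] V := δ.liftKaehlerDifferential.liftBaseChange C
  let l : κ ⊗[B] (C ⊗[B] Ω[B⁄A]) →ₗ[κ] V := (Λ.restrictScalars B).liftBaseChange κ
  refine Function.LeftInverse.injective (g := l) fun v => ?_
  suffices l ∘ₗ (KaehlerDifferential.kerCotangentToTensor A B C).baseChange κ = LinearMap.id from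
    LinearMap.congr_fun this v
  refine TensorProduct.AlgebraTensorModule.ext fun k z => ?_
  obtain ⟨x, rfl⟩ := J.toCotangent_surjective z
  have hu : KaehlerDifferential.kerCotangentToTensor A B C (J.toCotangent x) =
      (1 : C) ⊗ₜ[B] KaehlerDifferential.D A B (x : B) :=
    KaehlerDifferential.kerCotangentToTensor_toCotangent A B C x
  simp only [LinearMap.comp_apply, LinearMap.baseChange_tmul, LinearMap.id_apply]
  erw [hu]
  simp only [l, Λ, LinearMap.liftBaseChange_tmul,
    LinearMap.coe_restrictScalars, one_smul, Derivation.liftKaehlerDifferential_comp_D, hδ]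
  change k • ((1 : κ) ⊗ₜ[B] J.toCotangent x) = k ⊗ₜ[B] J.toCotangent x
  rw [TensorProduct.smul_tmul', smul_eq_mul, mul_one]

end Criterion

include A in
/-- Duals with determinant and generation near `p` give a split. -/
theorem hasSplit_of_derivations {ι : Type*} [Fintype ι] [DecidableEq ι]
    (x : ι → RingHom.ker (algebraMap B C)) (D : ι → Derivation A B B) (s : B)
    (hs : ∀ y : (RingHom.ker (algebraMap B C)).Cotangent,
      s • y ∈ Submodule.span B (Set.range fun i => (RingHom.ker (algebraMap B C)).toCotangent (x i))) :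
    HasSplit A C (s * (Matrix.of fun i j => D j (x i : B)).det) := by
  set M := Matrix.of fun i j => D j (x i : B) with hM
  let Λ : Ω[B⁄A] →ₗ[B] (RingHom.ker (algebraMap B C)).Cotangent :=
    ∑ k, (∑ j, M.adjugate j k • (D j).liftKaehlerDifferential).smulRight ((RingHom.ker (algebraMap B C)).toCotangent (x k))
  let δ := (s • Λ).compDer (KaehlerDifferential.D A B)
  refine ⟨δ, fun y => ?_⟩
  let w : RingHom.ker (algebraMap B C) →ₗ[B] (RingHom.ker (algebraMap B C)).Cotangent :=
    { toFun := fun z => Λ (KaehlerDifferential.D A B (z : B))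
      map_add' := fun a b => by simp
      map_smul' := fun r z => by
        simp only [SetLike.val_smul, smul_eq_mul, Derivation.leibniz, map_add, map_smul,
          RingHom.id_apply]
        rw [smul_cotangent_eq_zero z.2, add_zero] }
  let w' : (RingHom.ker (algebraMap B C)).Cotangent →ₗ[B] (RingHom.ker (algebraMap B C)).Cotangent := Submodule.liftQ _ w (by
    refine Submodule.smul_le.2 fun a ha z _ => ?_
    rw [LinearMap.mem_ker, map_smul, smul_cotangent_eq_zero ha])
  have hwi : ∀ i, w' ((RingHom.ker (algebraMap B C)).toCotangent (x i)) = M.det • (RingHom.ker (algebraMap B C)).toCotangent (x i) := by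
    intro i
    change Λ (KaehlerDifferential.D A B (x i : B)) = _
    simp only [Λ, LinearMap.sum_apply, LinearMap.smulRight_apply, LinearMap.smul_apply, smul_eq_mul,
      Derivation.liftKaehlerDifferential_comp_D]
    have h : ∀ k, ∑ j, M.adjugate j k * D j (x i : B) = (M.det • (1 : Matrix ι ι B)) i k := by
      intro k
      rw [← Matrix.mul_adjugate, Matrix.mul_apply]
      exact Finset.sum_congr rfl fun j _ => mul_comm _ _
    simp only [h, Matrix.smul_apply, Matrix.one_apply, smul_eq_mul, mul_ite, mul_one, mul_zero]
    simp [ite_smul]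
  have hspan : ∀ z ∈ Submodule.span B (Set.range fun i => (RingHom.ker (algebraMap B C)).toCotangent (x i)),
      w' z = M.det • z := by
    intro z hz
    induction hz using Submodule.span_induction with
    | mem z hz => obtain ⟨i, rfl⟩ := hz; exact hwi i
    | zero => simp
    | add a b _ _ ha hb => rw [map_add, ha, hb, smul_add]
    | smul r a _ ha => rw [map_smul, ha, smul_comm]
  change s • Λ (KaehlerDifferential.D A B (y : B)) = _
  change s • w' ((RingHom.ker (algebraMap B C)).toCotangent y) = _
  rw [← map_smul, hspan _ (hs _), ← mul_smul, mul_comm]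

variable (hsurj : Function.Surjective (algebraMap B C)) (p : Ideal C) [p.IsPrime]

/-- The residue fields agree. -/
noncomputable def residueEquiv : (p.comap (algebraMap B C)).ResidueField ≃ₗ[B] p.ResidueField :=
  (AlgEquiv.ofBijective
    (Ideal.ResidueField.mapₐ (p.comap (algebraMap B C)) p (Algebra.ofId B C) rfl)
    ((RingHom.surjectiveOnStalks_of_surjective hsurj).residueFieldMap_bijective _ _ rfl)).toLinearEquiv

include A hsurj in
/-- Injectivity on the fibre gives derivations with determinant outside `p`. -/
theorem exists_derivations [Algebra.FormallySmooth A B]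
    [Module.Finite B (RingHom.ker (algebraMap B C)).Cotangent]
    (hinj : Function.Injective
      ((KaehlerDifferential.kerCotangentToTensor A B C).baseChange p.ResidueField)) :
    ∃ (r : ℕ) (x : Fin r → RingHom.ker (algebraMap B C)) (D : Fin r → Derivation A B B) (s : B),
      algebraMap B C s ∉ p ∧ (∀ y : (RingHom.ker (algebraMap B C)).Cotangent,
        s • y ∈ Submodule.span B (Set.range fun i => (RingHom.ker (algebraMap B C)).toCotangent (x i))) ∧
      algebraMap B C (Matrix.of fun i j => D j (x i : B)).det ∉ p := by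
  set J := RingHom.ker (algebraMap B C) with hJ
  obtain ⟨r, m, s, hm, hs, hsp, hli⟩ := exists_basis_lifts (p.comap (algebraMap B C)) p.ResidueField
    (residueEquiv hsurj p) (Set.range J.toCotangent) (by
      rw [Set.range_eq_univ.2 J.toCotangent_surjective, Submodule.span_univ])
  choose x hx using hm
  have hli' := hli.map' _ (LinearMap.ker_eq_bot.2 hinj)
  let gC : Ω[B⁄A] →ₗ[B] C ⊗[B] Ω[B⁄A] := TensorProduct.mk B C (Ω[B⁄A]) 1
  have hz : LinearIndependent p.ResidueField
      fun i => (1 : p.ResidueField) ⊗ₜ[B] KaehlerDifferential.D A B (x i : B) := by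
    refine LinearIndependent.of_comp (gC.baseChange p.ResidueField) ?_
    have heq : (gC.baseChange p.ResidueField ∘
          fun i => (1 : p.ResidueField) ⊗ₜ[B] KaehlerDifferential.D A B (x i : B)) =
        ((KaehlerDifferential.kerCotangentToTensor A B C).baseChange p.ResidueField ∘
          fun i => (1 : p.ResidueField) ⊗ₜ[B] m i) := funext fun i => by
      simp only [Function.comp_apply, LinearMap.baseChange_tmul, ← hx i, gC, TensorProduct.mk_apply]
      exact congr_arg _ (KaehlerDifferential.kerCotangentToTensor_toCotangent A B C (x i)).symm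
    rw [heq]
    exact hli'
  obtain ⟨φ, hφ⟩ := exists_duals (p.comap (algebraMap B C)) p.ResidueField
    (fun b hb => by
      rw [IsScalarTower.algebraMap_apply B C p.ResidueField]
      exact Ideal.algebraMap_residueField_eq_zero.2 hb) _ hz
  refine ⟨r, x, fun j => (φ j).compDer (KaehlerDifferential.D A B), s, hs, fun y => ?_, hφ⟩
  have := hsp y
  rwa [show (fun i => J.toCotangent (x i)) = m from funext hx]

include A hsurj in
/-- Formal smoothness at `p` makes the conormal map injective at `p`. -/
theorem injective_of_formallySmooth_atPrime [Algebra.FormallySmooth A B]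
    [Algebra.FormallySmooth A (Localization.AtPrime p)] :
    Function.Injective
      ((KaehlerDifferential.kerCotangentToTensor A B C).baseChange p.ResidueField) :=
  injective_of_formallySmooth hsurj p.primeCompl (Localization.AtPrime p) p.ResidueField

end Groth.Agent.Lib.PBasis.SmoothQuot
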