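import Mathlib.RingTheory.Smooth.Basic
import Mathlib.RingTheory.LocalRing.Module
import Mathlib.RingTheory.LocalRing.ResidueField.Ideal
import Mathlib.RingTheory.Localization.Algebra
import Mathlib.RingTheory.Kaehler.Basic
import Mathlib.Algebra.Module.Projective
import Mathlib.LinearAlgebra.DirectSum.Finsupp
import Mathlib.LinearAlgebra.Matrix.NonsingularInverse
import Mathlib.LinearAlgebra.Dual.Lemmas
import Mathlib.RingTheory.Support

/-!
# Split injectivity at a prime through duals
-/

universe u

namespace Groth.Agent.Lib.PBasis.SplitCriterion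

open TensorProduct

variable {C M P : Type*} [CommRing C] [AddCommGroup M] [Module C M] [AddCommGroup P] [Module C P]

/-- Vectors independent in the fibre at `p` of a projective module have duals with
determinant outside `p`. -/
theorem exists_duals [Module.Projective C P] (p : Ideal C) (K : Type*) [Field K] [Algebra C K]
    (hker : ∀ x, x ∈ p → algebraMap C K x = 0) {r : ℕ} (z : Fin r → P)
    (hz : LinearIndependent K fun i => (1 : K) ⊗ₜ[C] z i) :
    ∃ φ : Fin r → (P →ₗ[C] C), (Matrix.of fun i j => φ j (z i)).det ∉ p := by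
  classical
  let v : (P →ₗ[C] C) → (Fin r → K) := fun (φ : P →ₗ[C] C) i =>
    algebraMap C K (φ (z i))
  have htop : Submodule.span K (Set.range v) = ⊤ := by
    by_contra hne
    obtain ⟨f, hf, hf0⟩ := Submodule.exists_dual_map_eq_bot_of_lt_top
      (lt_top_iff_ne_top.2 hne) inferInstance
    have hv : ∀ φ : P →ₗ[C] C, ∑ i, f (Pi.single i 1) * algebraMap C K (φ (z i)) = 0 := by
      intro φ
      have h0 : f (v φ) = 0 := by
        rw [← Submodule.mem_bot K, ← hf0]
        exact ⟨v φ, Submodule.subset_span ⟨φ, rfl⟩, rfl⟩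
      rw [← h0, pi_eq_sum_univ' (v φ), map_sum]
      refine Finset.sum_congr rfl fun i _ => ?_
      rw [map_smul, smul_eq_mul, mul_comm]
    obtain ⟨s, hs⟩ := Module.projective_def'.1 (inferInstance : Module.Projective C P)
    let w : K ⊗[C] P := ∑ i, f (Pi.single i 1) • ((1 : K) ⊗ₜ[C] z i)
    have hw : s.baseChange K w = 0 := by
      apply (TensorProduct.finsuppScalarRight C K K P).injective
      ext α
      rw [map_zero, Finsupp.zero_apply]
      simp only [w, map_sum, map_smul, LinearMap.baseChange_tmul, Finsupp.finset_sum_apply,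
        Finsupp.smul_apply, TensorProduct.finsuppScalarRight_apply_tmul_apply]
      refine Eq.trans (Finset.sum_congr rfl fun i _ => ?_) (hv ((Finsupp.lapply α) ∘ₗ s))
      simp [Algebra.smul_def]
    have hw0 : w = 0 := by
      have h1 : ((Finsupp.linearCombination C id) ∘ₗ s).baseChange K w = 0 := by
        rw [LinearMap.baseChange_comp, LinearMap.comp_apply, hw, map_zero]
      rw [hs] at h1
      simpa using h1
    have hfz := Fintype.linearIndependent_iff.1 hz (fun i => f (Pi.single i 1)) hw0
    refine hf (LinearMap.pi_ext' fun i => LinearMap.ext_ring ?_)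
    exact hfz i
  obtain ⟨κ, a, -, hspan, hli⟩ := exists_linearIndependent' K v
  rw [htop] at hspan
  let B : Module.Basis κ K (Fin r → K) := Module.Basis.mk hli hspan.ge
  let e : κ ≃ Fin r := B.indexEquiv (Pi.basisFun K (Fin r))
  refine ⟨fun j => a (e.symm j), fun hmem => ?_⟩
  have h0 : ((Matrix.of fun i j => (a (e.symm j)) (z i)).map (algebraMap C K)).det = 0 := by
    rw [← RingHom.mapMatrix_apply, ← RingHom.map_det]
    exact hker _ hmem
  have h1 : IsUnit ((Matrix.of fun i j => (a (e.symm j)) (z i)).map (algebraMap C K)) := by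
    rw [← Matrix.isUnit_transpose, ← Matrix.linearIndependent_rows_iff_isUnit]
    exact hli.comp e.symm e.symm.injective
  exact ((Matrix.isUnit_iff_isUnit_det _).1 h1).ne_zero h0

/-- A left inverse up to the factor `s * det`. -/
theorem exists_leftInverse_smul {ι : Type*} [Fintype ι] [DecidableEq ι] (u : M →ₗ[C] P) (m : ι → M)
    (φ : ι → (P →ₗ[C] C)) (s : C) (hs : ∀ x, s • x ∈ Submodule.span C (Set.range m)) :
    ∃ l : P →ₗ[C] M, ∀ x, l (u x) = (s * (Matrix.of fun i j => φ j (u (m i))).det) • x := by
  set A := Matrix.of fun i j => φ j (u (m i)) with hA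
  let l₀ : P →ₗ[C] M := ∑ k, (∑ j, A.adjugate j k • φ j).smulRight (m k)
  have h₀ : ∀ i, l₀ (u (m i)) = A.det • m i := by
    intro i
    simp only [l₀, LinearMap.sum_apply, LinearMap.smulRight_apply, LinearMap.smul_apply, smul_eq_mul]
    have h : ∀ k, ∑ j, A.adjugate j k * φ j (u (m i)) = (A.det • (1 : Matrix ι ι C)) i k := by
      intro k
      rw [← Matrix.mul_adjugate, Matrix.mul_apply]
      exact Finset.sum_congr rfl fun j _ => mul_comm _ _
    simp only [h, Matrix.smul_apply, Matrix.one_apply, smul_eq_mul, mul_ite, mul_one, mul_zero]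
    simp [ite_smul]
  have h₁ : ∀ y ∈ Submodule.span C (Set.range m), l₀ (u y) = A.det • y := by
    intro y hy
    induction hy using Submodule.span_induction with
    | mem y hy => obtain ⟨i, rfl⟩ := hy; exact h₀ i
    | zero => simp
    | add a b _ _ ha hb => rw [map_add, map_add, ha, hb, smul_add]
    | smul r a _ ha => rw [map_smul, map_smul, ha, smul_comm]
  refine ⟨s • l₀, fun x => ?_⟩
  rw [LinearMap.smul_apply, ← map_smul, ← map_smul, h₁ _ (hs x), ← mul_smul, mul_comm]

/-- A finite module is generated near `p` by lifts of a basis of its fibre. -/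
theorem exists_basis_lifts [Module.Finite C M] (p : Ideal C) [p.IsPrime] (K : Type*) [Field K]
    [Algebra C K] (eK : p.ResidueField ≃ₗ[C] K) (T : Set M) (hT : Submodule.span C T = ⊤) :
    ∃ (r : ℕ) (m : Fin r → M) (s : C), (∀ i, m i ∈ T) ∧ s ∉ p ∧
      (∀ x, s • x ∈ Submodule.span C (Set.range m)) ∧
      LinearIndependent K (fun i => (1 : K) ⊗ₜ[C] m i) := by
  classical
  let v : T → K ⊗[C] M := fun t => 1 ⊗ₜ[C] (t : M)
  have hv : Submodule.span K (Set.range v) = ⊤ := by
    refine Submodule.eq_top_iff'.2 fun z => ?_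
    induction z using TensorProduct.induction_on with
    | zero => exact Submodule.zero_mem _
    | add a b ha hb => exact Submodule.add_mem _ ha hb
    | tmul a x =>
      suffices (1 : K) ⊗ₜ[C] x ∈ Submodule.span K (Set.range v) by
        simpa [TensorProduct.smul_tmul'] using Submodule.smul_mem _ a this
      have hx : x ∈ Submodule.span C T := hT ▸ trivial
      induction hx using Submodule.span_induction with
      | mem y hy => exact Submodule.subset_span ⟨⟨y, hy⟩, rfl⟩
      | zero => simp
      | add a b _ _ ha hb => rw [TensorProduct.tmul_add]; exact Submodule.add_mem _ ha hb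
      | smul c a _ ha =>
        rw [TensorProduct.tmul_smul, ← algebraMap_smul K c ((1 : K) ⊗ₜ[C] a)]
        exact Submodule.smul_mem _ _ ha
  obtain ⟨κ, a, -, hspan, hli⟩ := exists_linearIndependent' K v
  rw [hv] at hspan
  let b : Module.Basis κ K (K ⊗[C] M) := Module.Basis.mk hli hspan.ge
  haveI : Finite κ := Module.Finite.finite_basis b
  let e := Finite.equivFin κ
  let m : Fin (Nat.card κ) → M := fun i => a (e.symm i)
  let N := Submodule.span C (Set.range m)
  have hNsub : Subsingleton (K ⊗[C] (M ⧸ N)) := by
    refine subsingleton_of_forall_eq 0 fun z => ?_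
    obtain ⟨y, rfl⟩ := LinearMap.lTensor_surjective K N.mkQ_surjective z
    change (N.mkQ.baseChange K) y = 0
    have hy : y ∈ Submodule.span K (Set.range (v ∘ a)) := hspan ▸ trivial
    induction hy using Submodule.span_induction with
    | mem y hy =>
      obtain ⟨k, rfl⟩ := hy
      have : N.mkQ (a k : M) = 0 := (Submodule.Quotient.mk_eq_zero N).2
        (Submodule.subset_span ⟨e k, by simp [m]⟩)
      simp [v, this]
    | zero => simp
    | add a b _ _ ha hb => rw [map_add, ha, hb, add_zero]
    | smul c a _ ha => rw [map_smul, ha, smul_zero]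
  have hsupp : (⟨p, inferInstance⟩ : PrimeSpectrum C) ∉ Module.support C (M ⧸ N) := by
    rw [Module.mem_support_iff_nontrivial_residueField_tensorProduct, not_nontrivial_iff_subsingleton]
    exact (TensorProduct.congr eK (LinearEquiv.refl C (M ⧸ N))).toEquiv.subsingleton
  rw [Module.support_eq_zeroLocus, PrimeSpectrum.mem_zeroLocus, SetLike.coe_subset_coe,
    SetLike.not_le_iff_exists] at hsupp
  obtain ⟨s, hs, hsp⟩ := hsupp
  refine ⟨_, m, s, fun i => (a (e.symm i)).2, hsp, fun x => ?_, hli.comp e.symm e.symm.injective⟩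
  rw [← Submodule.Quotient.mk_eq_zero, Submodule.Quotient.mk_smul]
  exact Module.mem_annihilator.1 hs _

end Groth.Agent.Lib.PBasis.SplitCriterion
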