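import Mathlib.RingTheory.Unramified.Field
import Mathlib.RingTheory.Unramified.Basic
import Mathlib.RingTheory.Nakayama
import Mathlib.RingTheory.IntegralClosure.IsIntegralClosure.Basic
import Mathlib.FieldTheory.PurelyInseparable.Basic

/-!
# Unramified radicial finite type algebras are quotients
-/

universe u

namespace Groth.Agent.Lib.PBasis.Unramified

variable {p : ℕ} [Fact p.Prime] {A B : Type u} [CommRing A] [CommRing B] [Algebra A B]

theorem fibre {k R : Type u} [Field k] [CommRing R] [Algebra k R] [Algebra.FormallyUnramified k R]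
    [Algebra.EssFiniteType k R] (s : ℕ) (hpow : ∀ b : R, b ^ p ^ s ∈ (algebraMap k R).range)
    (hp0 : (p : R) = 0) : Function.Surjective (algebraMap k R) := by
  rcases subsingleton_or_nontrivial R with h | h
  · exact fun x => ⟨0, Subsingleton.elim _ _⟩
  haveI : IsReduced R := Algebra.FormallyUnramified.isReduced_of_field k R
  have hf : IsField R := by
    refine ⟨⟨0, 1, zero_ne_one⟩, mul_comm, fun {a} ha => ?_⟩
    obtain ⟨c, hc⟩ := hpow a
    have hc0 : c ≠ 0 := by
      rintro rfl
      rw [map_zero] at hc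
      exact ha (IsReduced.eq_zero a ⟨_, hc.symm⟩)
    have hu : IsUnit (a ^ p ^ s) := hc ▸ (isUnit_iff_ne_zero.2 hc0).map _
    exact IsUnit.exists_right_inv ((isUnit_pow_iff (pow_ne_zero _ (Fact.out : p.Prime).ne_zero)).1 hu)
  letI := hf.toField
  haveI : CharP k p := (CharP.charP_iff_prime_eq_zero (Fact.out : p.Prime)).2
    ((algebraMap k R).injective (by rw [map_natCast, hp0, map_zero]))
  haveI : ExpChar k p := ExpChar.prime Fact.out
  haveI : IsPurelyInseparable k R :=
    (isPurelyInseparable_iff_pow_mem k p).2 fun x => ⟨s, hpow x⟩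
  haveI : Algebra.IsSeparable k R :=
    (Algebra.FormallyUnramified.iff_isSeparable k R).1 inferInstance
  exact IsPurelyInseparable.surjective_algebraMap_of_isSeparable k R

theorem surjective [CharP B p] [Algebra.FiniteType A B] [Algebra.FormallyUnramified A B] (s : ℕ)
    (hpow : ∀ b : B, b ^ p ^ s ∈ Set.range (algebraMap A B)) :
    Function.Surjective (algebraMap A B) := by
  haveI : Algebra.IsIntegral A B := ⟨fun b => by
    obtain ⟨a, ha⟩ := hpow b
    exact IsIntegral.of_pow (pow_pos (Fact.out : p.Prime).pos s) (ha ▸ isIntegral_algebraMap)⟩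
  haveI : Module.Finite A B := Algebra.IsIntegral.finite
  set N : Submodule A B := LinearMap.range (Algebra.linearMap A B)
  have key : ∀ m : Ideal A, m.IsMaximal → (⊤ : Submodule A (B ⧸ N)) ≤ m • ⊤ := by
    intro m hm
    letI := Ideal.Quotient.field m
    let R := B ⧸ m.map (algebraMap A B)
    haveI : Algebra.FormallyUnramified A R := Algebra.FormallyUnramified.comp A B R
    haveI : Algebra.FormallyUnramified (A ⧸ m) R :=
      Algebra.FormallyUnramified.of_restrictScalars A (A ⧸ m) R
    haveI : Algebra.FiniteType A R := Algebra.FiniteType.of_surjective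
      (Ideal.Quotient.mkₐ A _) Ideal.Quotient.mk_surjective
    haveI : Algebra.FiniteType (A ⧸ m) R := Algebra.FiniteType.of_restrictScalars_finiteType A _ _
    have hsurj := fibre (p := p) (k := A ⧸ m) (R := R) s (fun r => by
      obtain ⟨b, rfl⟩ := Ideal.Quotient.mk_surjective r
      obtain ⟨a, ha⟩ := hpow b
      refine ⟨Ideal.Quotient.mk m a, ?_⟩
      rw [← map_pow, ← ha]
      rfl) (by rw [← map_natCast (Ideal.Quotient.mk _), CharP.cast_eq_zero, map_zero])
    intro y _
    obtain ⟨b, rfl⟩ := Submodule.mkQ_surjective N y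
    obtain ⟨c, hc⟩ := hsurj (Ideal.Quotient.mk _ b)
    obtain ⟨a, rfl⟩ := Ideal.Quotient.mk_surjective c
    have hmem : b - algebraMap A B a ∈ (m • ⊤ : Submodule A B) := by
      rw [Ideal.smul_top_eq_map]
      exact (Ideal.Quotient.mk_eq_mk_iff_sub_mem _ _).1 hc.symm
    have h1 : N.mkQ b = N.mkQ (b - algebraMap A B a) := by
      rw [map_sub, eq_comm, sub_eq_self]
      exact (Submodule.Quotient.mk_eq_zero N).2 ⟨a, rfl⟩
    rw [h1]
    have h2 := Submodule.mem_map_of_mem (f := N.mkQ) hmem
    rw [Submodule.map_smul''] at h2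
    exact (Submodule.smul_mono le_rfl le_top) h2
  have hann : (⊤ : Submodule A (B ⧸ N)).annihilator = ⊤ := by
    by_contra h
    obtain ⟨m, hm, hle⟩ := Ideal.exists_le_maximal _ h
    obtain ⟨r, hr1, hr⟩ := Submodule.exists_sub_one_mem_and_smul_eq_zero_of_fg_of_le_smul m ⊤
      Module.Finite.fg_top (key m hm)
    have hr' : r ∈ m := hle (Submodule.mem_annihilator.2 hr)
    exact hm.ne_top ((Ideal.eq_top_iff_one m).2 (by simpa using sub_mem hr' hr1))
  intro b
  have := Submodule.mem_annihilator.1
    (hann.symm ▸ Submodule.mem_top : (1 : A) ∈ (⊤ : Submodule A (B ⧸ N)).annihilator)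
    (N.mkQ b) trivial
  rw [one_smul] at this
  exact (Submodule.Quotient.mk_eq_zero N).1 this

end Groth.Agent.Lib.PBasis.Unramified
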